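import Cfsg.Agent.Lib.Perm.SelfNormNonab.Forward
import Cfsg.Agent.Lib.Perm.CTSimple.Main
import Cfsg.Agent.S0799

/-!
# Non-abelian subgroups of `PSL₂(2ⁿ)`, `2ⁿ - 1` a prime, are self-normalizing
-/

set_option autoImplicit false
set_option linter.style.haveILetI false
set_option linter.unusedSectionVars false

open Subgroup CfsgLib.CTSimple

namespace CfsgLib.SelfNormNonab

universe u

/-- A group with at most five elements is commutative. -/
theorem comm_of_card_le_five {A : Type*} [Group A] [Finite A] (h : Nat.card A ≤ 5) :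
    IsMulCommutative A := by
  have hpos : 0 < Nat.card A := Nat.card_pos
  have key : ∀ p : ℕ, p.Prime → Nat.card A = p → IsMulCommutative A := fun p hp e => by
    haveI := Fact.mk hp
    haveI := isCyclic_of_prime_card e
    infer_instance
  interval_cases hA : Nat.card A
  · haveI : Subsingleton A := Finite.card_le_one_iff_subsingleton.1 (by omega)
    exact ⟨⟨fun a b => Subsingleton.elim _ _⟩⟩
  · exact key 2 Nat.prime_two rfl
  · exact key 3 Nat.prime_three rfl
  · haveI : Fact (Nat.Prime 2) := ⟨Nat.prime_two⟩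
    exact ⟨⟨(IsPGroup.isMulCommutative_of_card_eq_prime_sq (p := 2) (by rw [hA]; rfl)).is_comm.comm⟩⟩
  · exact key 5 (by norm_num) rfl

/-- A normal non-abelian subgroup of a dihedral group of odd degree is everything. -/
theorem dihedral_normal {k : ℕ} [NeZero k] (hk : Odd k) (M : Subgroup (DihedralGroup k)) [hM : M.Normal]
    (hna : ¬ IsMulCommutative M) : M = ⊤ := by
  obtain ⟨i, hi⟩ : ∃ i : ZMod k, DihedralGroup.sr i ∈ M := by
    by_contra hall
    push Not at hall
    refine hna (comm_of fun a ha b hb => ?_)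
    cases a with
    | sr i => exact absurd ha (hall i)
    | r i => cases b with
      | sr j => exact absurd hb (hall j)
      | r j => rw [DihedralGroup.r_mul_r, DihedralGroup.r_mul_r, add_comm]
  have hr : ∀ j : ZMod k, DihedralGroup.r j ∈ M := by
    intro j
    have hu : IsUnit (2 : ZMod k) := by
      exact_mod_cast (ZMod.isUnit_iff_coprime 2 k).2 hk.coprime_two_left
    obtain ⟨v, hv⟩ := hu
    set a : ZMod k := ↑v⁻¹ * j with ha
    have h2 : a + a = j := by
      rw [ha, ← two_mul, ← mul_assoc, ← hv, Units.mul_inv, one_mul]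
    have h3 := mul_mem (hM.conj_mem _ hi (DihedralGroup.r a)) hi
    rw [show DihedralGroup.r a * DihedralGroup.sr i * (DihedralGroup.r a)⁻¹ * DihedralGroup.sr i
        = DihedralGroup.r (a + a) by
      simp [DihedralGroup.r_mul_sr, DihedralGroup.sr_mul_r, DihedralGroup.sr_mul_sr]; abel] at h3
    exact h2 ▸ h3
  refine eq_top_iff.2 fun x _ => ?_
  cases x with
  | r j => exact hr j
  | sr j =>
    have := mul_mem hi (hr (j - i))
    rwa [DihedralGroup.sr_mul_r, add_sub_cancel] at this

/-- A normal non-abelian subgroup of the alternating group of degree four is everything. -/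
theorem alt_four_normal (M : Subgroup (alternatingGroup (Fin 4))) [M.Normal]
    (hna : ¬ IsMulCommutative M) : M = ⊤ := by
  have hcard : Nat.card (alternatingGroup (Fin 4)) = 12 := by
    rw [nat_card_alternatingGroup, Nat.card_eq_fintype_card, Fintype.card_fin]; rfl
  have h5 : 5 < Nat.card M := not_le.1 fun h => hna (comm_of_card_le_five h)
  have hmul := M.card_mul_index
  rw [hcard] at hmul
  have hi : M.index ≤ 2 := by
    by_contra hc
    nlinarith
  have hi0 := M.index_ne_zero_of_finite
  have hsq : ∀ x : alternatingGroup (Fin 4), x * x ∈ M := by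
    intro x
    interval_cases e : M.index
    · exact absurd rfl hi0
    · rw [index_eq_one.1 e]; exact mem_top _
    · exact Subgroup.mul_self_mem_of_index_two e x
  have key : ∀ x : alternatingGroup (Fin 4), x * x * x = 1 → x ∈ M := fun x hx => by
    have h2 := mul_mem (hsq x) (hsq x)
    rwa [← mul_assoc, hx, one_mul] at h2
  refine eq_top_iff.2 fun x _ => ?_
  have hx : (x : Equiv.Perm (Fin 4)) ∈ Subgroup.closure {σ : Equiv.Perm (Fin 4) | Equiv.Perm.IsThreeCycle σ} := by
    rw [Equiv.Perm.closure_three_cycles_eq_alternating]; exact x.2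
  have hle : Subgroup.closure {σ : Equiv.Perm (Fin 4) | Equiv.Perm.IsThreeCycle σ} ≤
      M.map (alternatingGroup (Fin 4)).subtype := by
    refine (closure_le _).2 fun σ hσ => ?_
    refine ⟨⟨σ, hσ.mem_alternatingGroup⟩, key _ (Subtype.ext ?_), rfl⟩
    have h3 := pow_orderOf_eq_one σ
    rw [hσ.orderOf, pow_succ, pow_two] at h3
    exact h3
  obtain ⟨y, hy, hye⟩ := hle hx
  exact (Subtype.ext hye : y = x) ▸ hy

/-- A symmetric group of degree four is not a CT-group. -/
theorem not_ct_perm_four : ¬ IsCT (Equiv.Perm (Fin 4)) := fun h => by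
  have := h (Equiv.swap 0 1) (Equiv.swap 0 1 * Equiv.swap 2 3) (Equiv.swap 0 2 * Equiv.swap 1 3)
    (by decide) (by decide) (by decide) (show _ = _ by decide) (show _ = _ by decide)
  exact absurd this.eq (by decide)

variable {X : Type} [Group X] [Finite X] [IsSimpleGroup X]

/-- Non-abelian subgroups of the normalizer of an involution centralizer. -/
theorem card_of_le_nrm (hct : IsCT X) (hna : ¬ IsMulCommutative X) {t : X} (ht : orderOf t = 2)
    (hP : (numInv t).Prime) {K : Subgroup X} (hK : K ≤ nrm t) (hKna : ¬ IsMulCommutative K) :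
    Nat.card K = Nat.card (nrm t) := by
  classical
  set A := cent t with hA
  set r := numInv t with hr
  have ht1 := CfsgLib.Invol.invol_ne_one ht
  have hrel := relIndex_cent hct ht hna
  have hAc : Nat.card A = r + 1 := card_cent_eq hct hna ht
  have hAcomm : ∀ a ∈ A, ∀ b ∈ A, Commute a b := fun a ha b hb => comm_of_mem hct ht1 ha hb
  obtain ⟨w, hwK, hwA⟩ : ∃ w, w ∈ K ∧ w ∉ A := by
    by_contra hall
    push Not at hall
    exact hKna (comm_of fun a ha b hb => (hAcomm a (hall a ha) b (hall b hb)).eq)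
  have hfix : ∀ v : X, v ∉ A → ∀ a ∈ A, Commute v a → a = 1 := by
    intro v hv a ha hc
    by_contra ha1
    have h1 : v ∈ cent a := mem_cent.2 hc
    rw [cent_eq hct ht1 ha1 ha] at h1
    exact hv h1
  haveI hAn : (A.subgroupOf (nrm t)).Normal := normal_in_normalizer
  set π := QuotientGroup.mk' (A.subgroupOf (nrm t)) with hπ
  have hQ : Nat.card (nrm t ⧸ A.subgroupOf (nrm t)) = r := hrel
  have hAK : ∀ v, v ∈ nrm t → v ^ r ∈ A := by
    intro v hv
    have h1 : π (⟨v, hv⟩ ^ r) = 1 := by rw [map_pow, ← hQ]; exact pow_card_eq_one'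
    simpa [mem_subgroupOf] using (QuotientGroup.eq_one_iff _).1 h1
  have hwr : w ^ r = 1 := hfix w hwA _ (hAK w (hK hwK)) ((Commute.refl w).pow_right r)
  have hwo : orderOf w = r := by
    rcases (Nat.dvd_prime hP).1 (orderOf_dvd_of_pow_eq_one hwr) with h | h
    · exact absurd (orderOf_eq_one_iff.1 h ▸ one_mem A) hwA
    · exact h
  obtain ⟨a, haK, haA, ha1⟩ : ∃ a, a ∈ K ∧ a ∈ A ∧ a ≠ 1 := by
    by_contra hall
    push Not at hall
    haveI := Fact.mk hP
    haveI : IsCyclic (nrm t ⧸ A.subgroupOf (nrm t)) := isCyclic_of_prime_card hQ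
    refine hKna (comm_of fun c hc d hd => ?_)
    have h1 : π (⟨c, hK hc⟩ * ⟨d, hK hd⟩) = π (⟨d, hK hd⟩ * ⟨c, hK hc⟩) := by
      rw [map_mul, map_mul]
      exact (inferInstance : IsMulCommutative (nrm t ⧸ A.subgroupOf (nrm t))).is_comm.comm _ _
    have h2 := QuotientGroup.eq.1 h1
    rw [mem_subgroupOf] at h2
    simp only [Subgroup.coe_mul, Subgroup.coe_inv] at h2
    have h3 := hall _ (mul_mem (inv_mem (mul_mem hc hd)) (mul_mem hd hc)) h2
    rwa [inv_mul_eq_one] at h3
  -- the orbit of `a` under `⟨w⟩`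
  have hAKcard : r + 1 ≤ Nat.card (A ⊓ K : Subgroup X) := by
    have hmem : ∀ i : Fin r, w ^ (i : ℕ) * a * (w ^ (i : ℕ))⁻¹ ∈ A ⊓ K := fun i =>
      Subgroup.mem_inf.2 ⟨(mem_normalizer_iff.1 (pow_mem (hK hwK) _) a).1 haA,
        mul_mem (mul_mem (pow_mem hwK _) haK) (inv_mem (pow_mem hwK _))⟩
    have h := Nat.card_le_card_of_injective
      (fun o : Option (Fin r) => o.elim (1 : (A ⊓ K : Subgroup X)) fun i => ⟨_, hmem i⟩) (by
      rintro (- | i) (- | j) h
      · rfl
      · exact absurd (congrArg Subtype.val h).symm (by simpa using ha1)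
      · exact absurd (congrArg Subtype.val h) (by simpa using ha1)
      · have h' : w ^ (i : ℕ) * a * (w ^ (i : ℕ))⁻¹ = w ^ (j : ℕ) * a * (w ^ (j : ℕ))⁻¹ :=
          congrArg Subtype.val h
        set v := (w ^ (j : ℕ))⁻¹ * w ^ (i : ℕ) with hv
        have hva : Commute v a := by
          show (w ^ (j : ℕ))⁻¹ * w ^ (i : ℕ) * a = a * ((w ^ (j : ℕ))⁻¹ * w ^ (i : ℕ))
          calc (w ^ (j : ℕ))⁻¹ * w ^ (i : ℕ) * a
              = (w ^ (j : ℕ))⁻¹ * (w ^ (i : ℕ) * a * (w ^ (i : ℕ))⁻¹) * w ^ (i : ℕ) := by group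
            _ = _ := by rw [h']; group
        have hvA : v ∈ A := by
          by_contra hvA
          exact ha1 (hfix v hvA a haA hva)
        have hv1 : v = 1 := hfix w hwA v hvA
          (((Commute.refl w).pow_right (j : ℕ)).inv_right.mul_right ((Commute.refl w).pow_right (i : ℕ)))
        rw [hv, inv_mul_eq_one] at hv1
        refine congrArg some (Fin.ext ?_)
        have e := pow_inj_mod.1 hv1.symm
        rwa [hwo, Nat.mod_eq_of_lt i.2, Nat.mod_eq_of_lt j.2] at e)
    rwa [Finite.card_option, Nat.card_fin] at h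
  have hAle : A ≤ K := by
    have := eq_of_le_of_card_ge (inf_le_left : A ⊓ K ≤ A) (hAc ▸ hAKcard)
    exact this ▸ inf_le_right
  have hN : Nat.card (nrm t) = Nat.card A * r := card_nrm hct ht hna
  refine Nat.dvd_antisymm (card_dvd_of_le hK) ?_
  rw [hN, hAc]
  refine Nat.Coprime.mul_dvd_of_dvd_of_dvd (by simp) (hAc ▸ card_dvd_of_le hAle) ?_
  rw [← hwo, ← orderOf_mk w hwK]
  exact orderOf_dvd_natCard _

/-- The non-abelian subgroups of `PSL₂(q)`, `q - 1` prime, are self-normalizing. -/
theorem selfNorm_psl {F : Type} [Field F] [Fintype F] {n : ℕ} (hn : 2 ≤ n) (hF : Fintype.card F = 2 ^ n)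
    (hP : (2 ^ n - 1).Prime) [IsSimpleGroup (Matrix.ProjectiveSpecialLinearGroup (Fin 2) F)]
    (hna : ¬ IsMulCommutative (Matrix.ProjectiveSpecialLinearGroup (Fin 2) F)) :
    SN (Matrix.ProjectiveSpecialLinearGroup (Fin 2) F) := by
  classical
  set q := 2 ^ n with hq
  haveI : Fact (Nat.Prime 2) := ⟨Nat.prime_two⟩
  haveI hchar : CharP F 2 := by
    obtain ⟨p, hp⟩ := CharP.exists F
    obtain ⟨k, hpp, hk⟩ := FiniteField.card F p
    have : p = 2 := by
      rw [hF, hq] at hk
      exact (Nat.prime_dvd_prime_iff_eq hpp Nat.prime_two).1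
        (hpp.dvd_of_dvd_pow (hk ▸ dvd_pow_self p k.ne_zero))
    exact this ▸ hp
  haveI : Finite (Matrix.ProjectiveSpecialLinearGroup (Fin 2) F) := Quotient.finite _
  have hct : IsCT (Matrix.ProjectiveSpecialLinearGroup (Fin 2) F) := ct_psl_two hF
  have hq4 : 4 ≤ q := by
    calc 4 = 2 ^ 2 := rfl
      _ ≤ q := Nat.pow_le_pow_right (by norm_num) hn
  have hqe : 2 ∣ q := dvd_pow_self 2 (by omega)
  have hgcd : Nat.gcd 2 (q - 1) = 1 := by
    rw [Nat.gcd_rec, show (q - 1) % 2 = 1 by omega]; rfl
  have hG : Nat.card (Matrix.ProjectiveSpecialLinearGroup (Fin 2) F) = q * ((q - 1) * (q + 1)) := by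
    have h := CfsgLib.Classical.card_psl2 (F := F)
    rw [hF, hgcd, one_mul] at h
    exact h
  obtain ⟨t, ht⟩ := exists_invol hct hna
  have hnum : numInv t + 1 = q := by
    have h := card_eq_prod hct ht hna
    rw [card_cent_eq hct hna ht, hG] at h
    set k := numInv t
    have hmono : ∀ a b : ℕ, a < b → 1 ≤ a → (a + 1) * (a * (a - 1)) < (b + 1) * (b * (b - 1)) := by
      intro a b hab ha
      exact Nat.mul_lt_mul_of_lt_of_le (by omega) (Nat.mul_le_mul hab.le (by omega))
        (Nat.mul_pos (by omega) (by omega))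
    have h' : (k + 1 + 1) * ((k + 1) * (k + 1 - 1)) = (q + 1) * (q * (q - 1)) := by
      rw [Nat.add_sub_cancel, ← h]; ring
    rcases lt_trichotomy (k + 1) q with hlt | he | hgt
    · exact absurd h' (hmono _ _ hlt (by omega)).ne
    · exact he
    · exact absurd h' (hmono _ _ hgt (by omega)).ne'
  have hr : (numInv t).Prime := by rw [show numInv t = q - 1 by omega]; exact hP
  have hA2 : IsPGroup 2 (cent t) := IsPGroup.of_card (n := n) (by rw [card_cent_eq hct hna ht, hnum])
  -- `cent t` is a Sylow subgroup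
  have hAidx : ¬ 2 ∣ (cent t).index := by
    have h := (cent t).card_mul_index
    rw [card_cent_eq hct hna ht, hnum, hG] at h
    rw [Nat.eq_of_mul_eq_mul_left (by omega) h]
    refine fun hd => ?_
    rcases (Nat.prime_two.dvd_mul).1 hd with h1 | h1 <;> omega
  set S : Sylow 2 (Matrix.ProjectiveSpecialLinearGroup (Fin 2) F) := hA2.toSylow hAidx with hS
  -- the statement
  intro H hH
  set N := normalizer (H : Set (Matrix.ProjectiveSpecialLinearGroup (Fin 2) F)) with hN
  have hHN : H ≤ N := le_normalizer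
  haveI hHn : (H.subgroupOf N).Normal := normal_in_normalizer
  have hNna : ¬ IsMulCommutative N := fun h => hH (comm_mono h hHN)
  have hH' : ¬ IsMulCommutative (H.subgroupOf N) := fun h => hH (comm_of fun a ha b hb =>
    congrArg Subtype.val (comm_apply h (a := ⟨a, hHN ha⟩) (b := ⟨b, hHN hb⟩) ha hb))
  -- it is enough to see that `H` is the whole of `N` inside it
  suffices key : H.subgroupOf N = ⊤ from le_antisymm (subgroupOf_eq_top.1 key) hHN
  have via : ∀ {T : Type} [Group T] (e : N ≃* T),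
      (∀ M : Subgroup T, M.Normal → ¬ IsMulCommutative M → M = ⊤) → H.subgroupOf N = ⊤ := by
    intro T _ e hT
    have := hT ((H.subgroupOf N).map e.toMonoidHom) (hHn.map _ e.surjective) fun hc => hH' (comm_of
      fun a ha b hb => e.injective (by
        rw [map_mul, map_mul]
        exact comm_apply hc (mem_map_of_mem e.toMonoidHom ha) (mem_map_of_mem e.toMonoidHom hb)))
    rw [eq_top_iff]
    intro x _
    obtain ⟨y, hy, hye⟩ := (this ▸ mem_top (e x) : e x ∈ (H.subgroupOf N).map e.toMonoidHom)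
    exact e.injective hye ▸ hy
  have simple : IsSimpleGroup N → H.subgroupOf N = ⊤ := fun hs =>
    (hHn.eq_bot_or_eq_top).resolve_left fun hbot => hH' (comm_of fun a ha b hb => by
      rw [hbot, Subgroup.mem_bot] at ha hb
      rw [ha, hb])
  have h6 : Nat.card N = 6 → H.subgroupOf N = ⊤ := fun hc => by
    have h5 : 5 < Nat.card (H.subgroupOf N) := not_le.1 fun h => hH' (comm_of_card_le_five h)
    exact Subgroup.eq_top_of_le_card _ (by omega)
  have hGN : Nat.card N = Nat.card (Matrix.ProjectiveSpecialLinearGroup (Fin 2) F) →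
      H.subgroupOf N = ⊤ := fun hc => by
    refine simple ?_
    have hNtop : N = ⊤ := Subgroup.eq_top_of_card_eq N hc
    haveI : IsSimpleGroup (⊤ : Subgroup (Matrix.ProjectiveSpecialLinearGroup (Fin 2) F)) :=
      (Subgroup.topEquiv).isSimpleGroup
    exact (MulEquiv.subgroupCongr hNtop).isSimpleGroup
  rcases Cfsg.Agent.S0799.result hF 2 N with
    ⟨k, hk, h | ⟨⟨e⟩⟩⟩ | ⟨P, K, hKP, ⟨e⟩⟩ | ⟨⟨e⟩⟩ | ⟨⟨e⟩⟩ | ⟨⟨e⟩⟩ | ⟨K, iK, iK', m, hm, he⟩
  · exact absurd (h.1.isMulCommutative) hNna
  · rw [hgcd, Nat.div_one, Nat.div_one] at hk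
    have hko : Odd k := by
      rcases hk with hk | hk
      · exact Odd.of_dvd_nat (Nat.odd_iff.2 (by omega)) hk
      · exact Odd.of_dvd_nat (Nat.odd_iff.2 (by omega)) hk
    haveI : NeZero k := ⟨hko.pos.ne'⟩
    exact via e fun M hM hMna => by haveI := hM; exact dihedral_normal hko M hMna
  · -- inside the normalizer of a Sylow 2-subgroup
    obtain ⟨g, hg⟩ := MulAction.exists_smul_eq (Matrix.ProjectiveSpecialLinearGroup (Fin 2) F) P S
    have hKg : K.map (MulAut.conj g).toMonoidHom ≤ nrm t := by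
      rintro _ ⟨x, hx, rfl⟩
      have hAeq : cent t = (P : Subgroup _).map (MulAut.conj g).toMonoidHom := by
        have h1 : ((g • P : Sylow 2 (Matrix.ProjectiveSpecialLinearGroup (Fin 2) F)) : Subgroup (Matrix.ProjectiveSpecialLinearGroup (Fin 2) F)) = (S : Subgroup (Matrix.ProjectiveSpecialLinearGroup (Fin 2) F)) := by rw [hg]
        rw [Sylow.coe_subgroup_smul] at h1
        exact h1.symm
      show MulAut.conj g x ∈ normalizer ((cent t : Subgroup _) : Set _)
      rw [hAeq]
      exact le_normalizer_map _ (mem_map_of_mem _ (hKP hx))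
    let f : N ≃* ↥(K.map (MulAut.conj g).toMonoidHom) :=
      e.trans (K.equivMapOfInjective _ (MulEquiv.injective _))
    refine via f fun M hM hMna => Subgroup.eq_top_of_card_eq M ?_
    rw [← card_map_of_injective (K.map (MulAut.conj g).toMonoidHom).subtype_injective]
    refine (card_of_le_nrm hct hna ht hr ((map_subtype_le M).trans hKg) fun hc => hMna (comm_of
      fun a ha b hb => (K.map (MulAut.conj g).toMonoidHom).subtype_injective (by
        rw [map_mul, map_mul]
        exact comm_apply hc (mem_map_of_mem _ ha) (mem_map_of_mem _ hb)))).trans ?_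
    refine (card_of_le_nrm hct hna ht hr hKg fun hc => hNna ?_).symm
    exact comm_of fun a ha b hb => by
      have h1 := hc.is_comm.comm (f ⟨a, ha⟩) (f ⟨b, hb⟩)
      rw [← map_mul, ← map_mul] at h1
      exact congrArg Subtype.val (f.injective h1)
  · exact via e fun M hM hMna => by haveI := hM; exact alt_four_normal M hMna
  · refine absurd (isCT_of_mulEquiv e.symm ?_) not_ct_perm_four
    intro a b c ha hb hc hab hbc
    have := hct (a : Matrix.ProjectiveSpecialLinearGroup (Fin 2) F) b c
      (fun h => ha (Subtype.ext h)) (fun h => hb (Subtype.ext h)) (fun h => hc (Subtype.ext h))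
      (congrArg Subtype.val hab.eq) (congrArg Subtype.val hbc.eq)
    exact Subtype.ext this.eq
  · haveI : IsSimpleGroup (alternatingGroup (Fin 5)) := alternatingGroup.isSimpleGroup (α := Fin 5) (by simp)
    exact simple e.isSimpleGroup
  · -- a subfield
    have hKc : 2 ≤ Fintype.card K := Fintype.one_lt_card
    have hK2 : ∃ j, Fintype.card K = 2 ^ j ∧ j * m = n := by
      have hm0 : m ≠ 0 := fun h => by rw [h, pow_zero] at hm; omega
      obtain ⟨j, -, hj⟩ := (Nat.dvd_prime_pow Nat.prime_two).1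
        (show Fintype.card K ∣ 2 ^ n from hq ▸ hm ▸ dvd_pow_self _ hm0)
      refine ⟨j, hj, Nat.pow_right_injective le_rfl ?_⟩
      show 2 ^ (j * m) = 2 ^ n
      rw [pow_mul, ← hj, hm]
    obtain ⟨j, hj, hjm⟩ := hK2
    have hnp : n.Prime := by
      refine Nat.prime_def_lt'.2 ⟨hn, fun a ha han hdvd => ?_⟩
      have hd : 2 ^ a - 1 ∣ 2 ^ n - 1 := Nat.pow_sub_one_dvd_pow_sub_one 2 hdvd
      have h1 : 4 ≤ 2 ^ a := le_of_eq_of_le rfl (Nat.pow_le_pow_right (by norm_num) ha : 2 ^ 2 ≤ 2 ^ a)
      have h2 : 2 ^ a < 2 ^ n := Nat.pow_lt_pow_right (by norm_num) han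
      rcases (Nat.dvd_prime hP).1 hd with h | h <;> omega
    have hcardN : Nat.card N = Fintype.card K * ((Fintype.card K - 1) * (Fintype.card K + 1)) := by
      have hj0 : j ≠ 0 := fun h => by rw [h, pow_zero] at hj; omega
      have hgK : Nat.gcd 2 (Fintype.card K - 1) = 1 := by
        have : 2 ∣ Fintype.card K := hj ▸ dvd_pow_self 2 hj0
        rw [Nat.gcd_rec, show (Fintype.card K - 1) % 2 = 1 by omega]; rfl
      rcases he with ⟨⟨e⟩⟩ | ⟨⟨e⟩⟩
      · rw [Nat.card_congr e.toEquiv]
        have h := CfsgLib.Classical.card_psl2 (F := K)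
        rw [hgK, one_mul] at h
        exact h
      · rw [Nat.card_congr e.toEquiv, CfsgLib.Perm.Dickson.card_G2 K, Nat.card_eq_fintype_card, mul_assoc]
    rcases hnp.eq_one_or_self_of_dvd j (Dvd.intro m hjm) with rfl | rfl
    · refine h6 ?_
      rw [hcardN, hj]; rfl
    · refine hGN ?_
      rw [hcardN, hG, hj, hq]

/-- The property only depends on the isomorphism type. -/
theorem sn_of_mulEquiv {A : Type*} {B : Type*} [Group A] [Group B] (e : A ≃* B) (h : SN B) :
    ∀ H : Subgroup A, ¬ IsMulCommutative H → normalizer (H : Set A) = H := by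
  intro H hH
  have h1 : ¬ IsMulCommutative (H.map e.toMonoidHom) := fun hc => hH (comm_of fun a ha b hb =>
    e.injective (by
      rw [map_mul, map_mul]
      exact comm_apply hc (mem_map_of_mem e.toMonoidHom ha) (mem_map_of_mem e.toMonoidHom hb)))
  refine le_antisymm (fun g hg => ?_) le_normalizer
  have h2 := le_normalizer_map e.toMonoidHom (mem_map_of_mem e.toMonoidHom hg)
  rw [h _ h1] at h2
  obtain ⟨y, hy, hye⟩ := h2
  exact e.injective hye ▸ hy

/-- `PSL₂` of isomorphic fields. -/
noncomputable def pslCongr {F K : Type} [Field F] [Field K] (σ : F ≃+* K) :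
    Matrix.ProjectiveSpecialLinearGroup (Fin 2) F ≃* Matrix.ProjectiveSpecialLinearGroup (Fin 2) K :=
  let ψ : Matrix.SpecialLinearGroup (Fin 2) F ≃* Matrix.SpecialLinearGroup (Fin 2) K :=
    MulEquiv.ofBijective (Matrix.SpecialLinearGroup.map σ.toRingHom)
      ⟨fun A B h => by
        ext i j
        exact σ.injective (congrFun (congrFun (congrArg Subtype.val h) i) j),
      fun B => ⟨Matrix.SpecialLinearGroup.map σ.symm.toRingHom B, by
        ext i j
        exact σ.apply_symm_apply (B.1 i j)⟩⟩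
  QuotientGroup.congr _ _ ψ (by
    ext B
    constructor
    · rintro ⟨A, hA, rfl⟩
      exact mem_center_iff.2 fun C => by
        obtain ⟨D, rfl⟩ := ψ.surjective C
        show ψ D * ψ A = ψ A * ψ D
        rw [← map_mul, ← map_mul, mem_center_iff.1 hA D]
    · intro hB
      obtain ⟨A, rfl⟩ := ψ.surjective B
      exact ⟨A, mem_center_iff.2 fun D => ψ.injective (by
        rw [map_mul, map_mul, mem_center_iff.1 hB (ψ D)]), rfl⟩)

/-- The order of the group from an isomorphism with `PSL₂(2 ^ f)`. -/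
theorem card_group {A : Type u} [Group A] {F : Type} [Field F] [Fintype F]
    (e : A ≃* Matrix.ProjectiveSpecialLinearGroup (Fin 2) F) {f : ℕ} (hF : Fintype.card F = 2 ^ f)
    (hf : 2 ≤ f) : Nat.card A = 2 ^ f * ((2 ^ f - 1) * (2 ^ f + 1)) := by
  have h := CfsgLib.Classical.card_psl2 (F := F)
  have h2 : 2 ∣ 2 ^ f := dvd_pow_self 2 (by omega)
  have h3 : 0 < 2 ^ f := Nat.two_pow_pos f
  have hgcd : Nat.gcd 2 (2 ^ f - 1) = 1 := by
    rw [Nat.gcd_rec, show (2 ^ f - 1) % 2 = 1 by omega]; rfl
  rw [hF, hgcd, one_mul] at h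
  rw [Nat.card_congr e.toEquiv, h]

/-- A group in which each non-trivial subgroup is self-normalizing has prime order or is trivial. -/
theorem prime_card_of_selfNorm {Q : Type*} [Group Q] [Finite Q] (hQ : Nat.card Q ≠ 1)
    (h : ∀ R : Subgroup Q, R ≠ ⊥ → normalizer (R : Set Q) = R) : (Nat.card Q).Prime := by
  obtain ⟨r, hr, hrd⟩ := Nat.exists_prime_and_dvd hQ
  haveI := Fact.mk hr
  obtain ⟨y, hy⟩ := exists_prime_orderOf_dvd_card' (G := Q) r hrd
  have hy1 : zpowers y ≠ ⊥ := fun e => by
    rw [zpowers_eq_bot.1 e, orderOf_one] at hy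
    exact hr.ne_one hy.symm
  have hyn := h _ hy1
  have hyp : IsPGroup r (zpowers y) := IsPGroup.of_card (n := 1) (by rw [Nat.card_zpowers, hy, pow_one])
  obtain ⟨T, hT⟩ : ∃ T : Sylow r Q, zpowers y ≤ T := hyp.exists_le_sylow
  have hTy : (T : Subgroup Q) = zpowers y := by
    by_contra hne
    have hlt : (zpowers y).subgroupOf (T : Subgroup Q) < ⊤ := lt_top_iff_ne_top.2 fun e =>
      hne (le_antisymm (subgroupOf_eq_top.1 e) hT)
    haveI : Group.IsNilpotent (T : Subgroup Q) := T.2.isNilpotent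
    obtain ⟨z, hz, hz'⟩ := SetLike.exists_of_lt (Group.normalizerCondition_of_isNilpotent _ hlt)
    refine hz' (mem_subgroupOf.2 ?_)
    rw [← hyn]
    exact mem_normalizer_fintype fun w hw => by
      have := (mem_normalizer_iff.1 hz ⟨w, hT hw⟩).1 (mem_subgroupOf.2 hw)
      simpa [mem_subgroupOf] using this
  have hTc : normalizer ((T : Subgroup Q) : Set Q) ≤ centralizer ((T : Subgroup Q) : Set Q) := by
    rw [hTy, hyn]
    intro w hw
    exact mem_centralizer_iff.2 fun v hv => comm_apply (inferInstance : IsMulCommutative (zpowers y)) hv hw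
  haveI : IsMulCommutative (T : Subgroup Q) := hTy.symm ▸ (inferInstance : IsMulCommutative (zpowers y))
  set K := (MonoidHom.transferSylow T hTc).ker
  have hcompl : K.IsComplement' T := MonoidHom.ker_transferSylow_isComplement' T hTc
  by_cases hK : K = ⊥
  · rw [hK] at hcompl
    rw [← card_top, ← (isComplement'_bot_left.1 hcompl), hTy, Nat.card_zpowers, hy]
    exact hr
  · have h1 := h K hK
    rw [normalizer_eq_top] at h1
    rw [← h1] at hcompl
    exact absurd (hTy ▸ isComplement'_top_left.1 hcompl) hy1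

/-- The converse arithmetic condition. -/
theorem prime_of_selfNorm {G : Type u} [Group G] [Finite G] [IsSimpleGroup G] (h : SN G) (hct : IsCT G)
    (hna : ¬ IsMulCommutative G) {t : G} (ht : orderOf t = 2) (f : ℕ)
    (hG : Nat.card G = 2 ^ f * ((2 ^ f - 1) * (2 ^ f + 1))) : (2 ^ f - 1).Prime := by
  have hcard := card_eq_prod hct ht hna
  rw [card_cent_eq hct hna ht, hG] at hcard
  have hk2 := two_le_numInv hct ht hna
  have hk : numInv t = 2 ^ f - 1 := by
    have hmono : ∀ a b : ℕ, a < b → 1 ≤ a → (a + 1) * (a * (a - 1)) < (b + 1) * (b * (b - 1)) := by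
      intro a b hab ha
      exact Nat.mul_lt_mul_of_lt_of_le (by omega) (Nat.mul_le_mul hab.le (by omega))
        (Nat.mul_pos (by omega) (by omega))
    set k := numInv t
    set q := 2 ^ f
    have h' : (k + 1 + 1) * ((k + 1) * (k + 1 - 1)) = (q + 1) * (q * (q - 1)) := by
      rw [Nat.add_sub_cancel, ← hcard]; ring
    have hq : 1 ≤ q := Nat.two_pow_pos f
    rcases lt_trichotomy (k + 1) q with hlt | he | hgt
    · exact absurd h' (hmono _ _ hlt (by omega)).ne
    · omega
    · exact absurd h' (hmono _ _ hgt hq).ne'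
  rw [← hk]
  haveI hAn : ((cent t).subgroupOf (nrm t)).Normal := normal_in_normalizer
  set π := QuotientGroup.mk' ((cent t).subgroupOf (nrm t)) with hπ
  have hQ : Nat.card (nrm t ⧸ (cent t).subgroupOf (nrm t)) = numInv t := relIndex_cent hct ht hna
  rw [← hQ]
  refine prime_card_of_selfNorm (by omega) fun R hR => ?_
  set K : Subgroup G := (R.comap π).map (nrm t).subtype with hK
  have hπs : Function.Surjective π := QuotientGroup.mk'_surjective _
  have hAK : ∀ a ∈ cent t, a ∈ K := fun a ha => ⟨⟨a, le_normalizer ha⟩, mem_comap.2 (by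
    rw [show π ⟨a, le_normalizer ha⟩ = 1 from (QuotientGroup.eq_one_iff _).2 (mem_subgroupOf.2 ha)]
    exact one_mem R), rfl⟩
  have hKna : ¬ IsMulCommutative K := by
    intro hc
    refine hR (eq_bot_iff.2 fun u hu => ?_)
    obtain ⟨v, rfl⟩ := hπs u
    refine (QuotientGroup.eq_one_iff v).2 (mem_subgroupOf.2 (mem_cent.2 ?_))
    exact comm_apply hc (mem_map_of_mem _ (mem_comap.2 hu)) (hAK t (self_mem_cent t))
  apply comap_injective hπs
  rw [comap_normalizer_eq_of_surjective _ hπs]
  refine le_antisymm (fun v hv => ?_) le_normalizer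
  have h1 : (v : G) ∈ normalizer (K : Set G) := le_normalizer_map _ (mem_map_of_mem _ hv)
  rw [h K hKna] at h1
  obtain ⟨w, hw, hwe⟩ := h1
  exact (Subtype.ext hwe : w = v) ▸ hw

end CfsgLib.SelfNormNonab
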