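import Cfsg.Agent.Lib.Perm.CTSimple.Basic
import Cfsg.Agent.Lib.Char.HallComplement
import Cfsg.Agent.Lib.PGroup.Breadth
import Cfsg.Agent.Lib.Char.QuaternionDerived

/-!
# Groups in which every non-abelian subgroup is self-normalizing

In a perfect such group the Sylow subgroups are abelian and the centralizer of every non-identity
element is abelian.
-/

set_option autoImplicit false
set_option linter.style.haveILetI false
set_option linter.unusedSectionVars false

open Subgroup
open scoped commutatorElement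

namespace CfsgLib.SelfNormNonab

universe u

variable {X : Type u} [Group X]

/-- every non-abelian subgroup is self-normalizing -/
def SN (X : Type u) [Group X] : Prop :=
  ∀ H : Subgroup X, ¬ IsMulCommutative H → normalizer (H : Set X) = H

theorem comm_of {H : Subgroup X} (h : ∀ a ∈ H, ∀ b ∈ H, a * b = b * a) : IsMulCommutative H :=
  ⟨⟨fun a b => Subtype.ext (h a a.2 b b.2)⟩⟩

theorem comm_apply {H : Subgroup X} (h : IsMulCommutative H) {a b : X} (ha : a ∈ H) (hb : b ∈ H) :
    a * b = b * a := congrArg Subtype.val (h.is_comm.comm ⟨a, ha⟩ ⟨b, hb⟩)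

theorem comm_mono {H K : Subgroup X} (hK : IsMulCommutative K) (h : H ≤ K) : IsMulCommutative H :=
  comm_of fun a ha b hb => comm_apply hK (h ha) (h hb)

theorem top_not_comm (hna : ¬ IsMulCommutative X) : ¬ IsMulCommutative (⊤ : Subgroup X) := fun h =>
  hna ⟨⟨fun a b => comm_apply h (mem_top a) (mem_top b)⟩⟩

theorem SN.subgroup (h : SN X) (C : Subgroup X) : SN C := by
  intro H hH
  refine le_antisymm (fun y hy => ?_) le_normalizer
  have hHm : ¬ IsMulCommutative (H.map C.subtype) := fun hc => hH (comm_of fun a ha b hb =>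
    C.subtype_injective (by
      rw [map_mul, map_mul]
      exact comm_apply hc (mem_map_of_mem _ ha) (mem_map_of_mem _ hb)))
  have : (y : X) ∈ normalizer ((H.map C.subtype : Subgroup X) : Set X) :=
    le_normalizer_map C.subtype (mem_map_of_mem C.subtype hy)
  rw [h _ hHm] at this
  obtain ⟨z, hz, hze⟩ := this
  exact C.subtype_injective hze ▸ hz

theorem SN.normal_eq_top (h : SN X) (M : Subgroup X) [M.Normal] (hM : ¬ IsMulCommutative M) :
    M = ⊤ := by
  rw [← h M hM, normalizer_eq_top]

variable [Finite X]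

/-- In a perfect group no non-trivial abelian Sylow subgroup is central in its normalizer. -/
theorem sylow_eq_bot (hX : commutator X = ⊤) {p : ℕ} [Fact p.Prime] (P : Sylow p X)
    (hP : normalizer ((P : Subgroup X) : Set X) ≤ centralizer ((P : Subgroup X) : Set X)) :
    (P : Subgroup X) = ⊥ := by
  haveI : IsMulCommutative (P : Subgroup X) := comm_of fun a ha b hb =>
    (mem_centralizer_iff.1 (hP (le_normalizer ha)) b hb).symm
  open scoped IsMulCommutative in
  have hker : (MonoidHom.transferSylow P hP).ker = ⊤ :=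
    top_le_iff.1 (hX ▸ Abelianization.commutator_subset_ker _)
  have := MonoidHom.ker_transferSylow_isComplement' P hP
  rw [hker] at this
  exact isComplement'_top_left.1 this

/-- A central element of prime power order in a perfect group lies in the derived subgroup of the
Sylow subgroup, here in the abelian case. -/
theorem central_eq_one (hX : commutator X = ⊤) {p : ℕ} [Fact p.Prime] (P : Sylow p X)
    (hP : IsMulCommutative (P : Subgroup X)) {x : X} (hx : x ∈ Subgroup.center X)
    (hxP : x ∈ (P : Subgroup X)) : x = 1 := by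
  haveI := hP
  open scoped IsMulCommutative in
  have h1 : MonoidHom.transfer (MonoidHom.id (P : Subgroup X)) x = 1 :=
    Abelianization.commutator_subset_ker _ (hX ▸ mem_top x)
  open scoped IsMulCommutative in
  rw [MonoidHom.transfer_eq_pow _ _ fun k g₀ _ => by
    rw [mul_assoc, ← mem_center_iff.1 (pow_mem hx k) g₀, ← mul_assoc, inv_mul_cancel, one_mul]] at h1
  have h2 : x ^ (P : Subgroup X).index = 1 := congrArg Subtype.val h1
  obtain ⟨k, hk⟩ := P.2 ⟨x, hxP⟩
  exact orderOf_eq_one_iff.1 (Nat.eq_one_of_dvd_coprimes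
    (((Fact.out : p.Prime).coprime_iff_not_dvd.2 P.not_dvd_index).pow_left k)
    (orderOf_dvd_of_pow_eq_one (congrArg Subtype.val hk)) (orderOf_dvd_of_pow_eq_one h2))

/-- A finite `p`-group with a unique maximal subgroup is cyclic; so a non-cyclic one has two. -/
theorem exists_two_coatoms {A : Type u} [Group A] [Finite A] (hnc : ¬ IsCyclic A) :
    ∃ M N : Subgroup A, IsCoatom M ∧ IsCoatom N ∧ M ≠ N := by
  obtain h | ⟨M, hM, -⟩ := eq_top_or_exists_le_coatom (⊥ : Subgroup A)
  · exact absurd (isCyclic_iff_exists_zpowers_eq_top.2 ⟨1, by rw [zpowers_one_eq_bot, h]⟩) hnc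
  obtain ⟨x, hx⟩ : ∃ x, x ∉ M := by
    by_contra hall
    push Not at hall
    exact hM.1 (eq_top_iff.2 fun a _ => hall a)
  obtain h | ⟨N, hN, hle⟩ := eq_top_or_exists_le_coatom (zpowers x)
  · exact absurd (isCyclic_iff_exists_zpowers_eq_top.2 ⟨x, h⟩) hnc
  · exact ⟨M, N, hM, hN, fun e => hx (e ▸ hle (mem_zpowers x))⟩

/-- An imperfect non-abelian group is a `p`-group or abelian-by-(cyclic Sylow). -/
theorem structure_of_imperfect (h : SN X) (hna : ¬ IsMulCommutative X) (hperf : commutator X ≠ ⊤) :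
    (∃ p : ℕ, p.Prime ∧ IsPGroup p X) ∨
    ∃ p : ℕ, p.Prime ∧ ∃ (Q : Subgroup X) (R : Sylow p X), Q.Normal ∧ IsMulCommutative Q ∧
      IsCyclic (R : Subgroup X) ∧ Q ⊔ (R : Subgroup X) = ⊤ ∧ ∀ q ∈ Q, ¬ p ∣ orderOf q := by
  classical
  obtain h0 | ⟨A, hA, hcA⟩ := eq_top_or_exists_le_coatom (commutator X)
  · exact absurd h0 hperf
  haveI hAn : A.Normal := Subgroup.Normal.of_commutator_le _ hcA
  have hAc : IsMulCommutative A := by
    by_contra hc
    exact hA.1 (h.normal_eq_top A hc)
  -- the index is a prime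
  obtain ⟨p, hp, hidx⟩ : ∃ p : ℕ, p.Prime ∧ A.index = p := by
    have h1 : A.index ≠ 1 := fun e => hA.1 (index_eq_one.1 e)
    obtain ⟨p, hp, hdvd⟩ := Nat.exists_prime_and_dvd h1
    haveI := Fact.mk hp
    rw [index_eq_card] at hdvd
    obtain ⟨y, hy⟩ := exists_prime_orderOf_dvd_card' (G := X ⧸ A) p hdvd
    refine ⟨p, hp, ?_⟩
    have hlt : A < (zpowers y).comap (QuotientGroup.mk' A) := by
      refine lt_of_le_of_ne (fun a ha => ?_) fun e => ?_
      · rw [mem_comap, QuotientGroup.mk'_apply, (QuotientGroup.eq_one_iff a).2 ha]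
        exact one_mem _
      · obtain ⟨a, rfl⟩ := QuotientGroup.mk'_surjective A y
        have ha : a ∈ A := e.symm ▸ mem_comap.2 (mem_zpowers _)
        rw [QuotientGroup.mk'_apply, (QuotientGroup.eq_one_iff a).2 ha, orderOf_one] at hy
        exact hp.ne_one hy.symm
    have htop : zpowers y = ⊤ := by
      rw [← map_comap_eq_self_of_surjective (QuotientGroup.mk'_surjective A) (zpowers y), hA.2 _ hlt,
        map_top_of_surjective _ (QuotientGroup.mk'_surjective A)]
    rw [index_eq_card, ← card_top, ← htop, Nat.card_zpowers, hy]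
  haveI := Fact.mk hp
  obtain ⟨R⟩ : Nonempty (Sylow p X) := inferInstance
  set m := Nat.card A / p ^ (Nat.card A).factorization p
  have hm : ¬ p ∣ m := Nat.not_dvd_ordCompl hp Nat.card_pos.ne'
  let Q : Subgroup X :=
    { carrier := {a | a ∈ A ∧ a ^ m = 1}
      one_mem' := ⟨one_mem A, one_pow m⟩
      mul_mem' := fun {a b} ha hb => ⟨mul_mem ha.1 hb.1, by
        rw [(show Commute a b from comm_apply hAc ha.1 hb.1).mul_pow, ha.2, hb.2, one_mul]⟩
      inv_mem' := fun {a} ha => ⟨inv_mem ha.1, by rw [inv_pow, ha.2, inv_one]⟩ }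
  have hQA : Q ≤ A := fun a ha => ha.1
  haveI hQn : Q.Normal := ⟨fun a ha g => ⟨hAn.conj_mem a ha.1 g, by rw [conj_pow, ha.2]; group⟩⟩
  have hQc : IsMulCommutative Q := comm_mono hAc hQA
  have hQp : ∀ q ∈ Q, ¬ p ∣ orderOf q := fun q hq hd =>
    hm (hd.trans (orderOf_dvd_of_pow_eq_one hq.2))
  -- the Sylow subgroup supplements `Q`
  have hsup : Q ⊔ (R : Subgroup X) = ⊤ := by
    have hAle : A ≤ Q ⊔ (R : Subgroup X) := by
      intro a ha
      set v := (Nat.card A).factorization p
      have hco : (p ^ v).Coprime m := (hp.coprime_iff_not_dvd.2 hm).pow_left v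
      have hcard : p ^ v * m = Nat.card A := Nat.ordProj_mul_ordCompl_eq_self _ _
      have hpow : a ^ (p ^ v * m) = 1 := by
        rw [hcard]
        exact congrArg Subtype.val (pow_card_eq_one' (x := (⟨a, ha⟩ : A)))
      have hb := Nat.gcd_eq_gcd_ab (p ^ v) m
      rw [hco.gcd_eq_one] at hb
      have hadec : a = (a ^ (p ^ v)) ^ (Nat.gcdA (p ^ v) m) * (a ^ m) ^ (Nat.gcdB (p ^ v) m) := by
        rw [← zpow_natCast, ← zpow_mul, ← zpow_natCast, ← zpow_mul, ← zpow_add, ← hb, Nat.cast_one,
          zpow_one]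
      rw [hadec]
      refine mul_mem (zpow_mem (mem_sup_left
        (show a ^ p ^ v ∈ Q from ⟨pow_mem ha _, by rw [← pow_mul, hpow]⟩)) _)
        (zpow_mem (mem_sup_right ?_) _)
      -- the `p`-part of `A` lies in every Sylow subgroup
      let W : Subgroup X :=
        { carrier := {b | b ∈ A ∧ b ^ p ^ v = 1}
          one_mem' := ⟨one_mem A, one_pow _⟩
          mul_mem' := fun {b c} hb hc => ⟨mul_mem hb.1 hc.1, by
            rw [(show Commute b c from comm_apply hAc hb.1 hc.1).mul_pow, hb.2, hc.2, one_mul]⟩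
          inv_mem' := fun {b} hb => ⟨inv_mem hb.1, by rw [inv_pow, hb.2, inv_one]⟩ }
      haveI : W.Normal := ⟨fun b hb g => ⟨hAn.conj_mem b hb.1 g, by rw [conj_pow, hb.2]; group⟩⟩
      have hW : IsPGroup p W := fun b => ⟨v, Subtype.ext b.2.2⟩
      exact hW.le_sylow_of_normal R
        (show a ^ m ∈ W from ⟨pow_mem ha _, by rw [← pow_mul, mul_comm, hpow]⟩)
    rcases eq_or_lt_of_le hAle with e | hlt
    · exfalso
      have hRA : (R : Subgroup X) ≤ A := e.symm ▸ le_sup_right
      have h1 := index_dvd_of_le hRA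
      rw [hidx] at h1
      exact R.not_dvd_index h1
    · exact hA.2 _ hlt
  by_cases hcyc : IsCyclic (R : Subgroup X)
  · exact Or.inr ⟨p, hp, Q, R, hQn, hQc, hcyc, hsup, hQp⟩
  refine Or.inl ⟨p, hp, ?_⟩
  haveI : Group.IsNilpotent (R : Subgroup X) := R.2.isNilpotent
  obtain ⟨M, N, hM, hN, hMN⟩ := exists_two_coatoms hcyc
  -- `Q` centralizes both maximal subgroups of `R`
  have key : ∀ K : Subgroup (R : Subgroup X), IsCoatom K → ∀ q ∈ Q, ∀ r ∈ K,
      q * (r : X) = (r : X) * q := by
    intro K hK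
    haveI hKn : K.Normal := NormalizerCondition.normal_of_coatom K Group.normalizerCondition_of_isNilpotent hK
    set L := Q ⊔ K.map (R : Subgroup X).subtype with hL
    haveI hLn : L.Normal := by
      rw [← normalizer_eq_top_iff, eq_top_iff, ← hsup, sup_le_iff]
      refine ⟨(le_sup_left : Q ≤ L).trans le_normalizer, fun r hr => ?_⟩
      refine mem_normalizer_iff_map_conj_eq.2 ?_
      rw [hL, Subgroup.map_sup]
      congr 1
      · exact mem_normalizer_iff_map_conj_eq.1
          (show r ∈ normalizer (Q : Set X) by rw [normalizer_eq_top]; exact mem_top r)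
      · exact mem_normalizer_iff_map_conj_eq.1
          (le_normalizer_map (R : Subgroup X).subtype
            (mem_map_of_mem _ (show (⟨r, hr⟩ : (R : Subgroup X)) ∈ normalizer (K : Set (R : Subgroup X)) by
              rw [normalizer_eq_top]; exact mem_top _)))
    have hLne : L ≠ ⊤ := by
      intro e
      refine hK.1 (eq_top_iff.2 fun r _ => ?_)
      have hr : (r : X) ∈ Q ⊔ K.map (R : Subgroup X).subtype := by rw [← hL, e]; exact mem_top _
      rw [← SetLike.mem_coe, normal_mul] at hr
      obtain ⟨q, hq, _, ⟨k, hk, rfl⟩, hqk⟩ := hr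
      replace hqk : q * (k : X) = (r : X) := hqk
      have hqR : q ∈ (R : Subgroup X) := by
        rw [eq_mul_inv_of_mul_eq hqk]
        exact mul_mem r.2 (inv_mem k.2)
      obtain ⟨j, hj⟩ := R.2 ⟨q, hqR⟩
      obtain ⟨i, -, hi⟩ := (Nat.dvd_prime_pow hp).1 (orderOf_dvd_of_pow_eq_one
        (show q ^ p ^ j = 1 from congrArg Subtype.val hj))
      have h1 : q = 1 := by
        rcases Nat.eq_zero_or_pos i with rfl | hpos
        · exact orderOf_eq_one_iff.1 (by rw [hi, pow_zero])
        · exact absurd (hi ▸ dvd_pow_self p hpos.ne') (hQp q hq)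
      rw [h1, one_mul] at hqk
      exact (Subtype.ext hqk : k = r) ▸ hk
    have hLc : IsMulCommutative L := by
      by_contra hc
      exact hLne (h.normal_eq_top L hc)
    intro q hq r hr
    exact comm_apply hLc (mem_sup_left hq) (mem_sup_right (mem_map_of_mem _ hr))
  have hMNtop : M ⊔ N = ⊤ := hM.2 _ (lt_of_le_of_ne le_sup_left fun e =>
    (hN.le_iff_eq hM.1).1 (e.symm ▸ le_sup_right) |> hMN)
  have hQR : ∀ q ∈ Q, ∀ r ∈ (R : Subgroup X), q * r = r * q := by
    intro q hq r hr
    have hle : M ⊔ N ≤ (centralizer ({q} : Set X)).comap (R : Subgroup X).subtype :=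
      sup_le (fun x hx => mem_comap.2 (mem_centralizer_singleton_iff.2 (key M hM q hq x hx).symm))
        (fun x hx => mem_comap.2 (mem_centralizer_singleton_iff.2 (key N hN q hq x hx).symm))
    rw [hMNtop] at hle
    exact (mem_centralizer_singleton_iff.1 (mem_comap.1 (hle (mem_top ⟨r, hr⟩)))).symm
  haveI hRn : (R : Subgroup X).Normal := by
    rw [← normalizer_eq_top_iff, eq_top_iff, ← hsup, sup_le_iff]
    refine ⟨fun q hq => mem_normalizer_iff.2 fun r => ⟨fun hr => ?_, fun hr => ?_⟩, le_normalizer⟩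
    · rw [hQR q hq r hr, mul_inv_cancel_right]; exact hr
    · have h3 : q * r * q⁻¹ = r := mul_left_cancel (a := q)
        ((hQR q hq _ hr).trans (by group))
      exact h3 ▸ hr
  have hRtop : (R : Subgroup X) = ⊤ := h.normal_eq_top _ fun hRc => hna (by
    have hall : (⊤ : Subgroup X) ≤ centralizer ((⊤ : Subgroup X) : Set X) := by
      conv_lhs => rw [← hsup]
      conv_rhs => rw [← hsup, sup_eq_closure, centralizer_closure]
      refine sup_le (fun q hq => mem_centralizer_iff.2 ?_) (fun r hr => mem_centralizer_iff.2 ?_)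
      · rintro a (ha | ha)
        · exact (comm_apply hQc hq ha).symm
        · exact (hQR q hq a ha).symm
      · rintro a (ha | ha)
        · exact hQR a ha r hr
        · exact (comm_apply hRc hr ha).symm
    exact ⟨⟨fun a b => (mem_centralizer_iff.1 (hall (mem_top a)) b (mem_top b)).symm⟩⟩)
  intro x
  obtain ⟨k, hk⟩ := R.2 ⟨x, hRtop ▸ mem_top x⟩
  exact ⟨k, congrArg Subtype.val hk⟩

/-- In a perfect group with this property normal abelian subgroups are central. -/
theorem normal_comm_le_center (h : SN X) (hperf : commutator X = ⊤) (D : Subgroup X) [D.Normal]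
    (hD : IsMulCommutative D) : D ≤ Subgroup.center X := by
  classical
  haveI hEn : (centralizer (D : Set X)).Normal := inferInstance
  by_cases hE : centralizer (D : Set X) = ⊤
  · exact centralizer_eq_top_iff_subset.1 hE
  exfalso
  have hEc : IsMulCommutative (centralizer (D : Set X)) := by
    by_contra hc
    exact hE (h.normal_eq_top _ hc)
  set π := QuotientGroup.mk' (centralizer (D : Set X))
  have hπ : Function.Surjective π := QuotientGroup.mk'_surjective _
  obtain ⟨r, hr, hrd⟩ := Nat.exists_prime_and_dvd (n := (centralizer (D : Set X)).index)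
    fun e => hE (index_eq_one.1 e)
  haveI := Fact.mk hr
  rw [index_eq_card] at hrd
  obtain ⟨y, hy⟩ := exists_prime_orderOf_dvd_card' (G := X ⧸ centralizer (D : Set X)) r hrd
  obtain ⟨a, ha⟩ := hπ y
  set H := (zpowers y).comap π with hH
  have haH : a ∈ H := mem_comap.2 (ha ▸ mem_zpowers y)
  have hEH : centralizer (D : Set X) ≤ H := fun e he => mem_comap.2 (by
    rw [show π e = 1 from (QuotientGroup.eq_one_iff e).2 he]; exact one_mem _)
  have hHn : normalizer (H : Set X) = H := h H fun hc => by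
    have hDE : D ≤ centralizer (D : Set X) := fun d hd => mem_centralizer_iff.2 fun d' hd' =>
      comm_apply hD hd' hd
    have haE : a ∈ centralizer (D : Set X) := mem_centralizer_iff.2 fun d hd =>
      comm_apply hc (hEH (hDE hd)) haH
    rw [← ha, show π a = 1 from (QuotientGroup.eq_one_iff a).2 haE, orderOf_one] at hy
    exact hr.ne_one hy.symm
  have hyn : normalizer (zpowers y : Set (X ⧸ centralizer (D : Set X))) = zpowers y := by
    apply comap_injective hπ
    rw [comap_normalizer_eq_of_surjective _ hπ, ← hH, hHn]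
  have hyp : IsPGroup r (zpowers y) := IsPGroup.of_card (n := 1) (by rw [Nat.card_zpowers, hy, pow_one])
  obtain ⟨T, hT⟩ : ∃ T : Sylow r (X ⧸ centralizer (D : Set X)), zpowers y ≤ T := hyp.exists_le_sylow
  have hTy : (T : Subgroup _) = zpowers y := by
    by_contra hne
    have hlt : (zpowers y).subgroupOf (T : Subgroup _) < ⊤ := lt_top_iff_ne_top.2 fun e =>
      hne (le_antisymm (subgroupOf_eq_top.1 e) hT)
    haveI : Group.IsNilpotent (T : Subgroup (X ⧸ centralizer (D : Set X))) := T.2.isNilpotent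
    obtain ⟨z, hz, hz'⟩ := SetLike.exists_of_lt (Group.normalizerCondition_of_isNilpotent _ hlt)
    refine hz' (mem_subgroupOf.2 ?_)
    rw [← hyn]
    exact mem_normalizer_iff.2 fun w => by
      constructor
      · intro hw
        have := (mem_normalizer_iff.1 hz ⟨w, hT hw⟩).1 (mem_subgroupOf.2 hw)
        simpa [mem_subgroupOf] using this
      · intro hw
        have hwT : w ∈ (T : Subgroup _) := by
          have h1 := mul_mem (mul_mem (inv_mem z.2) (hT hw)) z.2
          simpa [mul_assoc] using h1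
        have := (mem_normalizer_iff.1 hz ⟨w, hwT⟩).2 (by simpa [mem_subgroupOf] using hw)
        simpa [mem_subgroupOf] using this
  have hperf' : commutator (X ⧸ centralizer (D : Set X)) = ⊤ := by
    rw [← map_top_of_surjective π hπ, ← hperf, _root_.commutator_def, _root_.commutator_def,
      Subgroup.map_commutator, map_top_of_surjective π hπ]
  have := sylow_eq_bot hperf' T (by
    rw [hTy, hyn]
    intro w hw
    exact mem_centralizer_iff.2 fun v hv => comm_apply (inferInstance : IsMulCommutative (zpowers y)) hv hw)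
  rw [hTy, zpowers_eq_bot] at this
  rw [this, orderOf_one] at hy
  exact hr.ne_one hy.symm

/-- A subgroup containing a non-abelian Sylow subgroup is that subgroup or perfect. -/
theorem eq_or_perfect (h : SN X) {p : ℕ} [hp : Fact p.Prime] (P : Sylow p X)
    (hP : ¬ IsMulCommutative (P : Subgroup X)) {C : Subgroup X} (hC : (P : Subgroup X) ≤ C) :
    C = (P : Subgroup X) ∨ commutator C = ⊤ := by
  by_cases hperf : commutator C = ⊤
  · exact Or.inr hperf
  left
  have hCna : ¬ IsMulCommutative C := fun hc => hP (comm_mono hc hC)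
  have hPne : (P : Subgroup X) ≠ ⊥ := fun e => hP (comm_of fun a ha b hb => by
    rw [e, Subgroup.mem_bot] at ha hb; rw [ha, hb])
  have hpel : ∀ w ∈ (P : Subgroup X), w ≠ 1 → p ∣ orderOf w := by
    intro w hw hw1
    obtain ⟨k, hk⟩ := IsPGroup.iff_orderOf.1 P.2 ⟨w, hw⟩
    rw [← orderOf_coe] at hk
    rcases Nat.eq_zero_or_pos k with rfl | hk0
    · exact absurd (orderOf_eq_one_iff.1 (hk.trans (pow_zero p))) hw1
    · exact hk ▸ dvd_pow_self p hk0.ne'
  obtain ⟨r, hr, hCr⟩ | ⟨r, hr, Q, R, hQn, hQc, hRc, hQR, hQp⟩ :=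
    structure_of_imperfect (h.subgroup C) hCna hperf
  · obtain ⟨w, hw, hw1⟩ := ne_bot_iff_exists_ne_one.1 hPne |> fun ⟨w, hw⟩ =>
      (⟨(w : X), w.2, fun e => hw (Subtype.ext e)⟩ : ∃ w : X, w ∈ (P : Subgroup X) ∧ w ≠ 1)
    obtain ⟨k, hk⟩ := hCr ⟨w, hC hw⟩
    have hrp : r = p := ((Nat.prime_dvd_prime_iff_eq hp.out hr).1 (hp.out.dvd_of_dvd_pow
      ((hpel w hw hw1).trans (orderOf_dvd_of_pow_eq_one (congrArg Subtype.val hk))))).symm
    exact P.3 (hrp ▸ hCr) hC
  · exfalso
    haveI := Fact.mk hr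
    haveI := hQn
    by_cases hrp : r = p
    · subst hrp
      have hcard := (P.subtype hC).equiv R
      haveI : IsCyclic ((P.subtype hC : Sylow r C) : Subgroup C) := isCyclic_of_surjective hcard.symm hcard.symm.surjective
      have hc2 : IsMulCommutative ((P.subtype hC : Sylow r C) : Subgroup C) := inferInstance
      exact hP (comm_of fun a ha b hb => congrArg Subtype.val
        (comm_apply hc2 (a := ⟨a, hC ha⟩) (b := ⟨b, hC hb⟩) (by simpa [mem_subgroupOf] using ha)
          (by simpa [mem_subgroupOf] using hb)))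
    · have hle : ∀ w : C, (w : X) ∈ (P : Subgroup X) → w ∈ Q := by
        intro w hw
        obtain ⟨k, hk⟩ := P.2 ⟨w, hw⟩
        have h1 : orderOf (w : C) ∣ p ^ k := orderOf_dvd_of_pow_eq_one (Subtype.ext (congrArg Subtype.val hk :))
        have hwQR : w ∈ Q ⊔ (R : Subgroup C) := hQR ▸ mem_top w
        rw [← SetLike.mem_coe, normal_mul] at hwQR
        obtain ⟨q, hq, s, hs, rfl⟩ := hwQR
        obtain ⟨j, hj⟩ := R.2 ⟨s, hs⟩
        have hj' : s ^ r ^ j = 1 := congrArg Subtype.val hj
        have h2 : orderOf ((q * s : C) : C ⧸ Q) = 1 := by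
          refine Nat.eq_one_of_dvd_coprimes (((Nat.coprime_primes hp.out hr).2 (Ne.symm hrp)).pow k j)
            ((orderOf_map_dvd (QuotientGroup.mk' Q) _).trans h1) (orderOf_dvd_of_pow_eq_one ?_)
          rw [QuotientGroup.mk_mul, (QuotientGroup.eq_one_iff q).2 hq, one_mul, ← QuotientGroup.mk_pow,
            hj', QuotientGroup.mk_one]
        exact (QuotientGroup.eq_one_iff _).1 (orderOf_eq_one_iff.1 h2)
      exact hP (comm_of fun a ha b hb => congrArg Subtype.val
        (comm_apply hQc (hle ⟨a, hC ha⟩ ha) (hle ⟨b, hC hb⟩ hb)))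

/-- The Sylow subgroups of a perfect group with this property are abelian. -/
theorem sylow_comm (h : SN X) (hperf : commutator X = ⊤) {p : ℕ} [hp : Fact p.Prime] (P : Sylow p X) :
    IsMulCommutative (P : Subgroup X) := by
  classical
  by_contra hP
  set Pg := (P : Subgroup X) with hPg
  have hNP : normalizer (Pg : Set X) = Pg := h _ hP
  haveI : Group.IsNilpotent Pg := P.2.isNilpotent
  have hcoat : ∀ M : Subgroup Pg, IsCoatom M → M.Normal ∧ IsMulCommutative M ∧ M.index = p := by
    intro M hM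
    haveI hMn : M.Normal := NormalizerCondition.normal_of_coatom M Group.normalizerCondition_of_isNilpotent hM
    refine ⟨hMn, ?_, ?_⟩
    · by_contra hc
      exact hM.1 ((h.subgroup Pg).normal_eq_top M hc)
    · have hsimple : ∀ K : Subgroup (Pg ⧸ M), K = ⊥ ∨ K = ⊤ := fun K => by
        have hle : M ≤ K.comap (QuotientGroup.mk' M) := fun x hx => mem_comap.2 (by
          rw [show QuotientGroup.mk' M x = 1 from (QuotientGroup.eq_one_iff x).2 hx]; exact one_mem K)
        rw [← map_comap_eq_self_of_surjective (QuotientGroup.mk'_surjective M) K]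
        rcases hle.eq_or_lt with e | e
        · exact Or.inl (by rw [← e, QuotientGroup.map_mk'_self])
        · exact Or.inr (by rw [hM.2 _ e, map_top_of_surjective _ (QuotientGroup.mk'_surjective M)])
      obtain ⟨k, hk⟩ := IsPGroup.iff_card.1 (P.2.to_quotient M)
      have hk0 : k ≠ 0 := by
        rintro rfl
        exact hM.1 (index_eq_one.1 (by rw [index_eq_card, hk, pow_zero]))
      obtain ⟨y, hy⟩ := exists_prime_orderOf_dvd_card' (G := Pg ⧸ M) p (hk ▸ dvd_pow_self p hk0)
      rcases hsimple (zpowers y) with e | e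
      · rw [zpowers_eq_bot.1 e, orderOf_one] at hy
        exact absurd hy.symm hp.out.ne_one
      · rw [index_eq_card, ← card_top, ← e, Nat.card_zpowers, hy]
  have hPnc : ¬ IsMulCommutative Pg := hP
  have hPcyc : ¬ IsCyclic Pg := fun hc => by
    haveI := hc
    exact hPnc inferInstance
  -- centralizers in `P` have index at most `p`, so the derived group has order `p`
  have hcent : ∀ x : Pg, (centralizer ({x} : Set Pg)).index ≤ p ^ 1 := by
    intro x
    obtain e | ⟨M, hM, hle⟩ := eq_top_or_exists_le_coatom (zpowers x)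
    · exact absurd (isCyclic_iff_exists_zpowers_eq_top.2 ⟨x, e⟩) hPcyc
    have hMC : M ≤ centralizer ({x} : Set Pg) := fun m hm =>
      mem_centralizer_singleton_iff.2 (comm_apply (hcoat M hM).2.1 hm (hle (mem_zpowers x)))
    rw [pow_one]
    exact (Nat.le_of_dvd hp.out.pos ((hcoat M hM).2.2 ▸ index_dvd_of_le hMC))
  have hder : Nat.card (commutator Pg) ≤ p := by simpa using CfsgLib.Breadth.card_commutator_le P.2 hcent
  obtain ⟨M₁, M₂, hM₁, hM₂, hM12⟩ := exists_two_coatoms hPcyc
  have hM12top : M₁ ⊔ M₂ = ⊤ := hM₁.2 _ (lt_of_le_of_ne le_sup_left fun e =>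
    hM12 ((hM₂.le_iff_eq hM₁.1).1 (e.symm ▸ le_sup_right)))
  have hinf : M₁ ⊓ M₂ ≤ Subgroup.center Pg := by
    intro z hz
    have : M₁ ⊔ M₂ ≤ centralizer ({z} : Set Pg) := sup_le
      (fun a ha => mem_centralizer_singleton_iff.2 (comm_apply (hcoat _ hM₁).2.1 ha hz.1))
      (fun a ha => mem_centralizer_singleton_iff.2 (comm_apply (hcoat _ hM₂).2.1 ha hz.2))
    exact mem_center_iff.2 fun a => mem_centralizer_singleton_iff.1 (this (hM12top ▸ mem_top a))
  have hcleP : commutator Pg ≤ Subgroup.center Pg := by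
    refine le_trans (le_inf ?_ ?_) hinf
    · haveI := (hcoat _ hM₁).1
      haveI : IsMulCommutative (Pg ⧸ M₁) := by
        haveI : IsCyclic (Pg ⧸ M₁) := isCyclic_of_prime_card (p := p) (by rw [← index_eq_card]; exact (hcoat _ hM₁).2.2)
        infer_instance
      exact Subgroup.Normal.quotient_commutative_iff_commutator_le.1 inferInstance
    · haveI := (hcoat _ hM₂).1
      haveI : IsMulCommutative (Pg ⧸ M₂) := by
        haveI : IsCyclic (Pg ⧸ M₂) := isCyclic_of_prime_card (p := p) (by rw [← index_eq_card]; exact (hcoat _ hM₂).2.2)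
        infer_instance
      exact Subgroup.Normal.quotient_commutative_iff_commutator_le.1 inferInstance
  obtain ⟨z₀, hz₀, hz₀1⟩ : ∃ z : Pg, z ∈ commutator Pg ∧ z ≠ 1 := by
    by_contra hall
    push Not at hall
    refine hPnc ⟨⟨fun a b => commutatorElement_eq_one_iff_mul_comm.1 (hall _ ?_)⟩⟩
    exact commutator_mem_commutator (mem_top a) (mem_top b)
  have hgenz : commutator Pg = zpowers z₀ := (eq_of_le_of_card_ge (zpowers_le.2 hz₀) (by
    rw [Nat.card_zpowers]
    refine hder.trans (Nat.le_of_dvd (orderOf_pos z₀) ?_)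
    obtain ⟨k, hk⟩ := IsPGroup.iff_orderOf.1 P.2 z₀
    rw [hk]
    refine dvd_pow_self p ?_
    rintro rfl
    exact hz₀1 (orderOf_eq_one_iff.1 (hk.trans (pow_zero p))))).symm
  set z : X := (z₀ : X) with hz
  have hzP : z ∈ Pg := z₀.2
  have hzc : ∀ a ∈ Pg, a * z = z * a := fun a ha =>
    congrArg Subtype.val (mem_center_iff.1 (hcleP hz₀) ⟨a, ha⟩)
  -- the centralizer of `z` is `P`
  have hCz : centralizer ({z} : Set X) = Pg := by
    set C := centralizer ({z} : Set X) with hC
    have hPC : Pg ≤ C := fun a ha => mem_centralizer_singleton_iff.2 (hzc a ha)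
    refine (eq_or_perfect h P hP hPC).resolve_right fun hCperf => ?_
    set D := Subgroup.center C with hD
    set π := QuotientGroup.mk' D
    have hπ : Function.Surjective π := QuotientGroup.mk'_surjective D
    set P' : Sylow p C := P.subtype hPC with hP'
    have hzD : (⟨z, mem_centralizer_singleton_iff.2 rfl⟩ : C) ∈ D := mem_center_iff.2 fun c =>
      Subtype.ext (mem_centralizer_singleton_iff.1 c.2)
    set T := P'.mapSurjective hπ with hT
    have hTc : IsMulCommutative (T : Subgroup (C ⧸ D)) := comm_of fun a ha b hb => by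
      rw [hT, Sylow.coe_mapSurjective] at ha hb
      obtain ⟨a, ha, rfl⟩ := ha
      obtain ⟨b, hb, rfl⟩ := hb
      have hab : ⁅(⟨a, by simpa [hP', mem_subgroupOf] using ha⟩ : Pg), ⟨b, by simpa [hP', mem_subgroupOf] using hb⟩⁆
          ∈ zpowers z₀ := hgenz ▸ commutator_mem_commutator (mem_top _) (mem_top _)
      obtain ⟨i, hi⟩ := mem_zpowers_iff.1 hab
      have : ⁅a, b⁆ ∈ D := by
        have e : ⁅a, b⁆ = (⟨z, mem_centralizer_singleton_iff.2 rfl⟩ : C) ^ i := by
          apply Subtype.ext
          have := congrArg Subtype.val hi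
          simp only [commutatorElement_def, Subgroup.coe_mul, Subgroup.coe_inv, Subgroup.coe_zpow] at this ⊢
          exact this.symm
        exact e ▸ zpow_mem hzD i
      rw [← commutatorElement_eq_one_iff_mul_comm, ← map_commutatorElement]
      exact (QuotientGroup.eq_one_iff _).2 this
    have hperf' : commutator (C ⧸ D) = ⊤ := by
      rw [← map_top_of_surjective π hπ, ← hCperf, _root_.commutator_def, _root_.commutator_def,
        Subgroup.map_commutator, map_top_of_surjective π hπ]
    have hbot := sylow_eq_bot hperf' T (by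
      intro w hw
      obtain ⟨n, rfl⟩ := hπ w
      have hnP : (n : X) ∈ Pg := by
        rw [← hNP]
        refine mem_normalizer_fintype fun a ha => ?_
        -- the conjugate lies in `P` modulo the centre
        have ha' : (⟨a, hPC ha⟩ : C) ∈ (P' : Subgroup C) := by simpa [hP', mem_subgroupOf] using ha
        have h1 : π n * π ⟨a, hPC ha⟩ * (π n)⁻¹ ∈ (T : Subgroup (C ⧸ D)) :=
          (mem_normalizer_iff.1 hw _).1 (by rw [hT, Sylow.coe_mapSurjective]; exact mem_map_of_mem π ha')
        rw [hT, Sylow.coe_mapSurjective] at h1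
        obtain ⟨b, hb, hbe⟩ := h1
        rw [← map_inv, ← map_mul, ← map_mul] at hbe
        have hd : b⁻¹ * (n * ⟨a, hPC ha⟩ * n⁻¹) ∈ D := QuotientGroup.eq.1 hbe
        set d := b⁻¹ * (n * ⟨a, hPC ha⟩ * n⁻¹) with hd'
        have hbP : (b : X) ∈ Pg := by simpa [hP', mem_subgroupOf] using hb
        have hna' : n * ⟨a, hPC ha⟩ * n⁻¹ = b * d := by rw [hd']; group
        obtain ⟨k, hk⟩ := P.2 ⟨a, ha⟩
        obtain ⟨j, hj⟩ := P.2 ⟨b, hbP⟩
        have hbd : Commute b d := mem_center_iff.1 hd b
        have hk' : (b * d) ^ p ^ k = 1 := by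
          rw [← hna', conj_pow, show (⟨a, hPC ha⟩ : C) ^ p ^ k = 1 from
            Subtype.ext (congrArg Subtype.val hk :)]
          group
        have hdp : d ^ p ^ (k + j) = 1 := by
          have h2 : (b * d) ^ p ^ (k + j) = 1 := by rw [pow_add, pow_mul, hk', one_pow]
          have h3 : b ^ p ^ (k + j) = 1 := by
            rw [pow_add, mul_comm, pow_mul, show b ^ p ^ j = 1 from Subtype.ext (congrArg Subtype.val hj :), one_pow]
          rwa [hbd.mul_pow, h3, one_mul] at h2
        have hzp : IsPGroup p (zpowers d) := by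
          rintro ⟨x, hx⟩
          obtain ⟨i, rfl⟩ := mem_zpowers_iff.1 hx
          exact ⟨k + j, Subtype.ext (show (d ^ i) ^ p ^ (k + j) = 1 by
            rw [← zpow_natCast, ← zpow_mul, mul_comm, zpow_mul, zpow_natCast, hdp, one_zpow])⟩
        haveI : (zpowers d).Normal := ⟨fun x hx g => by
          have : x ∈ D := zpowers_le.2 hd hx
          rw [mem_center_iff.1 this g, mul_inv_cancel_right]; exact hx⟩
        have hdP : (d : X) ∈ Pg := by
          simpa [hP', mem_subgroupOf] using hzp.le_sylow_of_normal P' (mem_zpowers d)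
        have := mul_mem hbP hdP
        rw [← Subgroup.coe_mul, ← hna'] at this
        simpa using this
      exact mem_centralizer_iff.2 fun v hv => comm_apply hTc hv (by
        rw [hT, Sylow.coe_mapSurjective]
        exact mem_map_of_mem π (by simpa [hP', mem_subgroupOf] using hnP)))
    refine hP (comm_of fun a ha b hb => ?_)
    have ha' : π ⟨a, hPC ha⟩ ∈ (T : Subgroup (C ⧸ D)) := by
      rw [hT, Sylow.coe_mapSurjective]
      exact mem_map_of_mem π (by simpa [hP', mem_subgroupOf] using ha)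
    rw [hbot, Subgroup.mem_bot] at ha'
    exact congrArg Subtype.val (mem_center_iff.1 ((QuotientGroup.eq_one_iff _).1 ha') ⟨b, hPC hb⟩).symm
  -- the only conjugate of `z` in `P` is `z`
  have hiso : ∀ g : X, g * z * g⁻¹ ∈ Pg → g * z * g⁻¹ = z := by
    intro g hg
    set z' := g * z * g⁻¹ with hz'
    by_cases hz'c : ∀ a ∈ Pg, a * z' = z' * a
    · obtain ⟨n, hn, hne⟩ := P.conj_eq_normalizer_conj_of_mem_centralizer z g⁻¹
        (mem_centralizer_iff.2 fun a ha => hzc a ha)
        (by rw [inv_inv]; exact mem_centralizer_iff.2 fun a ha => hz'c a ha)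
      replace hn : n ∈ Pg := hNP ▸ hn
      rw [inv_inv] at hne
      rw [hz', hne, mul_assoc, ← hzc n hn, ← mul_assoc, inv_mul_cancel, one_mul]
    exfalso
    obtain e | ⟨M, hM, hle⟩ := eq_top_or_exists_le_coatom (zpowers (⟨z', hg⟩ : Pg))
    · exact hPcyc (isCyclic_iff_exists_zpowers_eq_top.2 ⟨_, e⟩)
    obtain ⟨hMn, hMc, hMi⟩ := hcoat M hM
    set A := M.map Pg.subtype with hA
    have hAP : A ≤ Pg := map_subtype_le M
    have hzA' : ∀ a ∈ A, a * z' = z' * a := by
      rintro _ ⟨a, ha, rfl⟩
      exact congrArg Subtype.val (comm_apply hMc ha (hle (mem_zpowers (⟨z', hg⟩ : Pg))))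
    set P2 : Subgroup X := Pg.map (MulAut.conj g).toMonoidHom with hP2
    have hAP2 : A ≤ P2 := by
      intro a ha
      refine ⟨g⁻¹ * a * g, ?_, by simp [MulAut.conj_apply]; group⟩
      rw [SetLike.mem_coe, ← hCz, mem_centralizer_singleton_iff]
      calc g⁻¹ * a * g * z = g⁻¹ * (a * z') * g := by rw [hz']; group
        _ = g⁻¹ * (z' * a) * g := by rw [hzA' a ha]
        _ = z * (g⁻¹ * a * g) := by rw [hz']; group
    have hcardA : Nat.card A * p = Nat.card Pg := by
      rw [hA, card_map_of_injective Pg.subtype_injective, ← hMi, card_mul_index]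
    have hP2n : P2 ≤ normalizer (A : Set X) := by
      refine (normal_subgroupOf_iff_le_normalizer hAP2).1 ?_
      have hP2p : IsPGroup p P2 := P.2.map _
      haveI : Group.IsNilpotent P2 := hP2p.isNilpotent
      have hc2 : Nat.card P2 = Nat.card Pg := card_map_of_injective (MulEquiv.injective _)
      have hi : (A.subgroupOf P2).index = p := by
        have h1 := card_mul_index (A.subgroupOf P2)
        rw [Nat.card_congr (subgroupOfEquivOfLe hAP2).toEquiv, hc2, ← hcardA] at h1
        exact Nat.eq_of_mul_eq_mul_left Nat.card_pos h1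
      refine NormalizerCondition.normal_of_coatom _ Group.normalizerCondition_of_isNilpotent
        ⟨fun e => hp.out.ne_one (by rw [← hi, e, index_top]), fun K hK => ?_⟩
      have h2 := relIndex_mul_index hK.le
      rw [hi] at h2
      rcases (Nat.dvd_prime hp.out).1 (Dvd.intro_left _ h2) with h3 | h3
      · exact index_eq_one.1 h3
      · rw [h3] at h2
        exact absurd (relIndex_eq_one.1 (Nat.eq_of_mul_eq_mul_right hp.out.pos (by omega))) (not_le_of_gt hK)
    have hPn : Pg ≤ normalizer (A : Set X) := by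
      refine (normal_subgroupOf_iff_le_normalizer hAP).1 ?_
      have : A.subgroupOf Pg = M := by
        rw [hA, subgroupOf, comap_map_eq_self_of_injective Pg.subtype_injective]
      rw [this]
      exact hMn
    rcases eq_or_perfect h P hP hPn with hNA | hNA
    · rw [hNA] at hP2n
      have e : P2 = Pg := eq_of_le_of_card_ge hP2n
        (card_map_of_injective (MulEquiv.injective _)).symm.le
      have hgP : g ∈ Pg := by rw [← hNP]; exact mem_normalizer_iff_map_conj_eq.2 e
      refine hz'c fun a ha => ?_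
      rw [hz', hzc g hgP, mul_inv_cancel_right]
      exact hzc a ha
    · set N := normalizer (A : Set X)
      haveI : (A.subgroupOf N).Normal := normal_in_normalizer
      have hc := normal_comm_le_center (h.subgroup N) hNA (A.subgroupOf N)
        (comm_of fun a ha b hb => Subtype.ext (by
          rw [mem_subgroupOf] at ha hb
          obtain ⟨a', ha', hae⟩ := ha
          obtain ⟨b', hb', hbe⟩ := hb
          rw [Subgroup.coe_mul, Subgroup.coe_mul, ← hae, ← hbe]
          exact congrArg Subtype.val (comm_apply hMc ha' hb')))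
      refine hz'c fun a ha => ?_
      have hz'A : z' ∈ A := ⟨⟨z', hg⟩, hle (mem_zpowers _), rfl⟩
      exact congrArg Subtype.val (mem_center_iff.1
        (hc (show (⟨z', le_normalizer hz'A⟩ : N) ∈ A.subgroupOf N from hz'A)) ⟨a, hPn ha⟩)
  -- hence `P` controls fusion and has a normal complement
  have hfus : ∀ x ∈ Pg, ∀ y ∈ Pg, IsConj x y → ∃ k ∈ Pg, k * x * k⁻¹ = y := by
    intro x hx y hy hxy
    obtain ⟨g, rfl⟩ := isConj_iff.1 hxy
    set K := centralizer ({g * x * g⁻¹} : Set X)
    have hzK : z ∈ K := mem_centralizer_singleton_iff.2 (hzc _ hy).symm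
    have hz'K : g * z * g⁻¹ ∈ K := mem_centralizer_singleton_iff.2 (by
      calc g * z * g⁻¹ * (g * x * g⁻¹) = g * (z * x) * g⁻¹ := by group
        _ = g * (x * z) * g⁻¹ := by rw [hzc x hx]
        _ = g * x * g⁻¹ * (g * z * g⁻¹) := by group)
    have hpp : ∀ w : K, ∀ c : X, (w : X) = c * z * c⁻¹ → IsPGroup p (zpowers w) := by
      intro w c hw
      obtain ⟨k, hk⟩ := P.2 ⟨z, hzP⟩
      have hw' : w ^ p ^ k = 1 := Subtype.ext (by
        rw [Subgroup.coe_pow, hw, conj_pow, show z ^ p ^ k = 1 from congrArg Subtype.val hk]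
        simp)
      rintro ⟨v, hv⟩
      obtain ⟨i, rfl⟩ := mem_zpowers_iff.1 hv
      exact ⟨k, Subtype.ext (show (w ^ i) ^ p ^ k = 1 by
        rw [← zpow_natCast, ← zpow_mul, mul_comm, zpow_mul, zpow_natCast, hw', one_zpow])⟩
    obtain ⟨T, hT⟩ := (hpp ⟨z, hzK⟩ 1 (by simp)).exists_le_sylow
    obtain ⟨T₂, hT₂⟩ := (hpp ⟨_, hz'K⟩ g rfl).exists_le_sylow
    obtain ⟨c, hc⟩ := MulAction.exists_smul_eq K T₂ T
    have hcT : c * ⟨_, hz'K⟩ * c⁻¹ ∈ (T : Subgroup K) := by
      rw [← hc, Sylow.coe_subgroup_smul]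
      exact ⟨_, hT₂ (mem_zpowers _), by simp [MulAut.conj]⟩
    obtain ⟨S, hS⟩ := (T.2.map K.subtype).exists_le_sylow
    obtain ⟨s, hs⟩ := MulAction.exists_smul_eq X S P
    have hin : ∀ v : K, v ∈ (T : Subgroup K) → s * (v : X) * s⁻¹ ∈ Pg := fun v hv => by
      rw [hPg, ← hs, Sylow.coe_subgroup_smul]
      exact ⟨v, hS (mem_map_of_mem _ hv), by simp [MulAut.conj]⟩
    have e1 := hiso s (hin _ (hT (mem_zpowers _)))
    have e2 := hiso (s * (c : X) * g) (by
      have := hin _ hcT
      convert this using 1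
      simp [mul_assoc])
    have e3 : (c : X) * g ∈ Pg := by
      rw [← hCz, mem_centralizer_singleton_iff]
      have e4 : s * ((c : X) * g * z * ((c : X) * g)⁻¹) * s⁻¹ = s * z * s⁻¹ := by
        rw [e1]
        exact (by group : _ = s * (c : X) * g * z * (s * (c : X) * g)⁻¹).trans e2
      exact mul_inv_eq_iff_eq_mul.1 (mul_left_cancel (mul_right_cancel e4))
    refine ⟨(c : X) * g, e3, ?_⟩
    calc (c : X) * g * x * ((c : X) * g)⁻¹ = (c : X) * (g * x * g⁻¹) * (c : X)⁻¹ := by group
      _ = _ := by rw [mem_centralizer_singleton_iff.1 c.2, mul_inv_cancel_right]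
  obtain ⟨K, hKn, hKP, hKP'⟩ := CfsgLib.Char.HallComplement.exists_complement Pg (by
      obtain ⟨k, hk⟩ := P.2.exists_card_eq
      rw [hPg, hk]
      exact ((hp.out.coprime_iff_not_dvd).2 P.not_dvd_index).pow_left k)
    (by
      intro E q _ _ hEd
      obtain ⟨k, hk⟩ := P.2.exists_card_eq
      obtain ⟨i, -, hi⟩ := (Nat.dvd_prime_pow hp.out).1 (hk ▸ hEd)
      obtain ⟨S, hS⟩ := (IsPGroup.of_card hi).exists_le_sylow
      obtain ⟨s, hs⟩ := MulAction.exists_smul_eq X S P
      refine ⟨s, ?_⟩
      rw [hPg, ← hs, Sylow.coe_subgroup_smul]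
      rintro _ ⟨e, he, rfl⟩
      exact ⟨e, hS he, rfl⟩) hfus
  haveI := hKn
  -- the quotient by the complement is the `p`-group `P`, and it is perfect
  set π := QuotientGroup.mk' K
  have hπ : Function.Surjective π := QuotientGroup.mk'_surjective K
  have hsurj : Pg.map π = ⊤ := by
    rw [← map_top_of_surjective π hπ, ← hKP, Subgroup.map_sup, QuotientGroup.map_mk'_self, bot_sup_eq]
  have hQp : IsPGroup p (X ⧸ K) := by
    intro x
    obtain ⟨a, ha, rfl⟩ : x ∈ Pg.map π := hsurj ▸ mem_top x
    obtain ⟨k, hk⟩ := P.2 ⟨a, ha⟩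
    exact ⟨k, by rw [← map_pow, show a ^ p ^ k = 1 from congrArg Subtype.val hk, map_one]⟩
  haveI : Group.IsNilpotent (X ⧸ K) := hQp.isNilpotent
  haveI : Group.IsSolvable (X ⧸ K) := inferInstance
  have hperf' : commutator (X ⧸ K) = ⊤ := by
    rw [← map_top_of_surjective π hπ, ← hperf, _root_.commutator_def, _root_.commutator_def,
      Subgroup.map_commutator, map_top_of_surjective π hπ]
  have htriv : ∀ n, derivedSeries (X ⧸ K) n = ⊤ := by
    intro n
    induction n with
    | zero => rfl
    | succ n ih => rw [derivedSeries_succ, ih, ← _root_.commutator_def, hperf']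
  obtain ⟨n, hn⟩ := (inferInstance : Group.IsSolvable (X ⧸ K))
  have hKtop : K = ⊤ := eq_top_iff.2 fun x _ => (QuotientGroup.eq_one_iff x).1 (by
    have : π x ∈ (⊥ : Subgroup (X ⧸ K)) := by rw [← hn, htriv]; exact mem_top _
    exact Subgroup.mem_bot.1 this)
  rw [hKtop, top_inf_eq] at hKP'
  exact hP (comm_of fun a ha b hb => by rw [hKP', Subgroup.mem_bot] at ha hb; rw [ha, hb])

/-- The centralizer of a non-identity element of a centre-free perfect such group is abelian. -/
theorem centralizer_comm (h : SN X) (hperf : commutator X = ⊤)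
    {x : X} (hx : x ≠ 1) : IsMulCommutative (centralizer ({x} : Set X)) := by
  classical
  -- it is enough to treat elements of prime order
  obtain ⟨r, hr, hrd⟩ := Nat.exists_prime_and_dvd (n := orderOf x) fun e => hx (orderOf_eq_one_iff.1 e)
  haveI := Fact.mk hr
  set y := x ^ (orderOf x / r) with hy
  have hyo : orderOf y = r := orderOf_pow_orderOf_div (orderOf_pos x).ne' hrd
  refine comm_mono (K := centralizer ({y} : Set X)) ?_ fun a ha =>
    mem_centralizer_singleton_iff.2 ((show Commute a x from mem_centralizer_singleton_iff.1 ha).pow_right _)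
  by_contra hC
  set C := centralizer ({y} : Set X) with hCdef
  have hyC : y ∈ C := mem_centralizer_singleton_iff.2 rfl
  have hy1 : y ≠ 1 := fun e => hr.ne_one (by rw [← hyo, e, orderOf_one])
  have hyZ : (⟨y, hyC⟩ : C) ∈ Subgroup.center C := mem_center_iff.2 fun c =>
    Subtype.ext (mem_centralizer_singleton_iff.1 c.2)
  have hyp : IsPGroup r (zpowers (⟨y, hyC⟩ : C)) :=
    IsPGroup.of_card (n := 1) (by rw [Nat.card_zpowers, ← orderOf_coe, pow_one]; exact hyo)
  haveI hyn : (zpowers (⟨y, hyC⟩ : C)).Normal := ⟨fun v hv g => by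
    rw [mem_center_iff.1 (zpowers_le.2 hyZ hv) g, mul_inv_cancel_right]; exact hv⟩
  -- `p`-subgroups are abelian
  have hpab : ∀ {q : ℕ} [Fact q.Prime] (T : Subgroup C), IsPGroup q T → IsMulCommutative T := by
    intro q _ T hT
    obtain ⟨S, hS⟩ := (hT.map C.subtype).exists_le_sylow
    exact comm_of fun a ha b hb => C.subtype_injective (by
      rw [map_mul, map_mul]
      exact comm_apply (sylow_comm h hperf S) (hS (mem_map_of_mem _ ha)) (hS (mem_map_of_mem _ hb)))
  by_cases hCperf : commutator C = ⊤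
  · obtain ⟨T, hT⟩ := hyp.exists_le_sylow
    exact hy1 (congrArg Subtype.val (central_eq_one hCperf T (hpab _ T.2) hyZ (hT (mem_zpowers _))))
  obtain ⟨q, hq, hCq⟩ | ⟨q, hq, Q, R, hQn, hQc, hRc, hQR, hQp⟩ :=
    structure_of_imperfect (h.subgroup C) hC hCperf
  · haveI := Fact.mk hq
    exact hC ⟨⟨fun a b => comm_apply
      (hpab ⊤ (hCq.to_subgroup ⊤)) (mem_top a) (mem_top b)⟩⟩
  haveI := Fact.mk hq
  haveI := hQn
  obtain ⟨w, hw⟩ := hRc.exists_generator
  have hRw : ∀ s ∈ (R : Subgroup C), ∃ i : ℤ, s = (w : C) ^ i := fun s hs => by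
    obtain ⟨i, hi⟩ := mem_zpowers_iff.1 (hw ⟨s, hs⟩)
    exact ⟨i, by simpa using (congrArg Subtype.val hi).symm⟩
  by_cases hqr : q = r
  · subst hqr
    have hyR : (⟨y, hyC⟩ : C) ∈ (R : Subgroup C) := hyp.le_sylow_of_normal R (mem_zpowers _)
    set Rg := (R : Subgroup C).map C.subtype with hRg
    -- the normalizer of `⟨y⟩` is `C`
    have hNy : normalizer (zpowers y : Set X) ≤ C := by
      intro n hn
      rw [← h C hC]
      have hcc : centralizer (zpowers y : Set X) = C := by
        rw [hCdef]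
        exact le_antisymm (centralizer_le (Set.singleton_subset_iff.2 (mem_zpowers y)))
          (fun c hc => mem_centralizer_iff.2 fun v hv => by
            obtain ⟨i, rfl⟩ := mem_zpowers_iff.1 hv
            exact ((show Commute c y from mem_centralizer_singleton_iff.1 hc).zpow_right i).symm.eq)
      rw [← hcc]
      have key : ∀ m ∈ normalizer (zpowers y : Set X), ∀ v ∈ centralizer (zpowers y : Set X),
          m * v * m⁻¹ ∈ centralizer (zpowers y : Set X) := by
        intro m hm v hv
        refine mem_centralizer_iff.2 fun u hu => ?_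
        have h1 := mem_centralizer_iff.1 hv _ ((mem_normalizer_iff.1 (inv_mem hm) u).1 hu)
        calc u * (m * v * m⁻¹) = m * ((m⁻¹ * u * m⁻¹⁻¹) * v) * m⁻¹ := by group
          _ = m * (v * (m⁻¹ * u * m⁻¹⁻¹)) * m⁻¹ := by rw [h1]
          _ = m * v * m⁻¹ * u := by group
      refine mem_normalizer_fintype fun v hv => ?_
      exact key n hn v hv
    -- so the normalizer of `R` is inside `C` and centralizes it
    have hNR : normalizer (Rg : Set X) ≤ centralizer (Rg : Set X) := by
      intro n hn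
      have hyRg : zpowers y ≤ Rg := zpowers_le.2 ⟨_, hyR, rfl⟩
      have hnC : n ∈ C := hNy (mem_normalizer_fintype fun v hv => by
        obtain ⟨i, rfl⟩ := mem_zpowers_iff.1 hv
        have hconj : n * y * n⁻¹ ∈ Rg := (mem_normalizer_iff.1 hn y).1 (hyRg (mem_zpowers y))
        obtain ⟨v, hv', hve⟩ := hconj
        -- a cyclic group has only one subgroup of order `q`
        haveI : IsCyclic (R : Subgroup C) := hRc
        have e : zpowers (⟨v, hv'⟩ : (R : Subgroup C)) = zpowers (⟨⟨y, hyC⟩, hyR⟩ : (R : Subgroup C)) := by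
          apply CfsgLib.Char.cyclic_subgroup_eq
          rw [Nat.card_zpowers, Nat.card_zpowers, ← orderOf_coe, ← orderOf_coe, ← orderOf_coe, ← orderOf_coe]
          show orderOf (v : X) = orderOf y
          rw [show (v : X) = n * y * n⁻¹ from hve]
          exact (MulAut.conj n).orderOf_eq y
        obtain ⟨j, hj⟩ := mem_zpowers_iff.1 (e ▸ mem_zpowers (⟨v, hv'⟩ : (R : Subgroup C)))
        show n * y ^ i * n⁻¹ ∈ zpowers y
        rw [← conj_zpow, ← hve]
        refine zpow_mem (mem_zpowers_iff.2 ⟨j, ?_⟩) i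
        simpa using congrArg (fun u : (R : Subgroup C) => ((u : C) : X)) hj)
      refine mem_centralizer_iff.2 ?_
      rintro _ ⟨s, hs, rfl⟩
      have hm : (⟨n, hnC⟩ : C) * s * (⟨n, hnC⟩ : C)⁻¹ ∈ (R : Subgroup C) := by
        obtain ⟨v, hv, hve⟩ := (mem_normalizer_iff.1 hn (s : X)).1 (mem_map_of_mem _ hs)
        rwa [show v = ⟨n, hnC⟩ * s * (⟨n, hnC⟩ : C)⁻¹ from Subtype.ext hve] at hv
      have hnn : (⟨n, hnC⟩ : C) ∈ Q ⊔ (R : Subgroup C) := hQR ▸ mem_top _
      rw [← SetLike.mem_coe, normal_mul] at hnn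
      obtain ⟨a, ha, b, hb, hab⟩ := hnn
      have hbs : b * s * b⁻¹ = s := by
        rw [comm_apply (inferInstance : IsMulCommutative (R : Subgroup C)) hb hs, mul_inv_cancel_right]
      rw [← hab, show a * b * s * (a * b)⁻¹ = a * (b * s * b⁻¹) * a⁻¹ by group, hbs] at hm
      have hc1 : a * s * a⁻¹ * s⁻¹ = 1 := by
        have hQm : a * s * a⁻¹ * s⁻¹ ∈ Q := by
          rw [show a * s * a⁻¹ * s⁻¹ = a * (s * a⁻¹ * s⁻¹) by group]
          exact mul_mem ha (hQn.conj_mem _ (inv_mem ha) s)
        have hRm := mul_mem hm (inv_mem hs)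
        obtain ⟨k, hk⟩ := IsPGroup.iff_orderOf.1 R.2 ⟨_, hRm⟩
        rw [← orderOf_coe] at hk
        rcases Nat.eq_zero_or_pos k with rfl | hk0
        · exact orderOf_eq_one_iff.1 (hk.trans (pow_zero _))
        · exact absurd ((dvd_pow_self q hk0.ne').trans hk.symm.dvd) (hQp _ hQm)
      have : (⟨n, hnC⟩ : C) * s = s * ⟨n, hnC⟩ := by
        have h1 : a * s = s * a := mul_inv_eq_one.1 hc1 |> fun e => mul_inv_eq_iff_eq_mul.1 e
        rw [← hab, mul_assoc, comm_apply (inferInstance : IsMulCommutative (R : Subgroup C)) hb hs,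
          ← mul_assoc, h1, mul_assoc]
      exact (congrArg Subtype.val this).symm
    -- hence `R` is a Sylow subgroup of `X`
    obtain ⟨S, hS⟩ := (R.2.map C.subtype).exists_le_sylow
    have hSR : (S : Subgroup X) = Rg := by
      by_contra hne
      have hlt : Rg.subgroupOf (S : Subgroup X) < ⊤ := lt_top_iff_ne_top.2 fun e =>
        hne (le_antisymm (subgroupOf_eq_top.1 e) hS)
      haveI : Group.IsNilpotent (S : Subgroup X) := S.2.isNilpotent
      obtain ⟨v, hv, hv'⟩ := SetLike.exists_of_lt (Group.normalizerCondition_of_isNilpotent _ hlt)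
      have hvn : (v : X) ∈ normalizer (Rg : Set X) := mem_normalizer_fintype fun u hu => by
        have := (mem_normalizer_iff.1 hv ⟨u, hS hu⟩).1 (mem_subgroupOf.2 hu)
        simpa [mem_subgroupOf] using this
      have hvC : (v : X) ∈ C := mem_centralizer_singleton_iff.2
        (mem_centralizer_iff.1 (hNR hvn) y ⟨_, hyR, rfl⟩).symm
      have hSC : IsPGroup q ((S : Subgroup X).subgroupOf C) :=
        S.2.comap_of_injective C.subtype C.subtype_injective
      have hRS : (R : Subgroup C) ≤ (S : Subgroup X).subgroupOf C := fun u hu => hS (mem_map_of_mem _ hu)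
      have hvR : (⟨v, hvC⟩ : C) ∈ (R : Subgroup C) := R.3 hSC hRS ▸ v.2
      exact hv' (mem_subgroupOf.2 ⟨_, hvR, rfl⟩)
    have := sylow_eq_bot hperf S (hSR ▸ hNR)
    rw [hSR, hRg, map_eq_bot_iff_of_injective _ C.subtype_injective] at this
    rw [this, Subgroup.mem_bot] at hyR
    exact hy1 (congrArg Subtype.val hyR)
  · -- the commutators with the generator of `R` miss the centre
    have hyQ : (⟨y, hyC⟩ : C) ∈ Q := by
      have hyy : (⟨y, hyC⟩ : C) ∈ Q ⊔ (R : Subgroup C) := hQR ▸ mem_top _
      rw [← SetLike.mem_coe, normal_mul] at hyy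
      obtain ⟨a, ha, b, hb, hab⟩ := hyy
      obtain ⟨j, hj⟩ := R.2 ⟨b, hb⟩
      have h2 : orderOf ((a * b : C) : C ⧸ Q) = 1 := by
        refine Nat.eq_one_of_dvd_coprimes (((Nat.coprime_primes hr hq).2 (Ne.symm hqr)).pow 1 j)
          ((orderOf_map_dvd (QuotientGroup.mk' Q) _).trans
            (dvd_of_eq (show orderOf (a * b) = r ^ 1 by
              rw [show a * b = _ from hab, ← orderOf_coe, pow_one]; exact hyo)))
          (orderOf_dvd_of_pow_eq_one ?_)
        rw [QuotientGroup.mk_mul, (QuotientGroup.eq_one_iff a).2 ha, one_mul, ← QuotientGroup.mk_pow,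
          show b ^ q ^ j = 1 from congrArg Subtype.val hj, QuotientGroup.mk_one]
      exact hab ▸ (QuotientGroup.eq_one_iff _).1 (orderOf_eq_one_iff.1 h2)
    haveI := hQc
    let ψ : Q →* Q :=
      MonoidHom.mk' (fun a => ⟨(w : C) * a * (w : C)⁻¹ * (a : C)⁻¹,
        mul_mem (hQn.conj_mem _ a.2 _) (inv_mem a.2)⟩) fun a b => Subtype.ext (by
          have hc := comm_apply hQc (hQn.conj_mem _ b.2 (w : C)) (inv_mem a.2)
          show (w : C) * (a * b : C) * (w : C)⁻¹ * (a * b : C)⁻¹ =
            ((w : C) * a * (w : C)⁻¹ * (a : C)⁻¹) * ((w : C) * b * (w : C)⁻¹ * (b : C)⁻¹)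
          calc (w : C) * (a * b : C) * (w : C)⁻¹ * (a * b : C)⁻¹
              = (w : C) * a * (w : C)⁻¹ * (((w : C) * b * (w : C)⁻¹) * ((b : C)⁻¹ * (a : C)⁻¹)) := by group
            _ = (w : C) * a * (w : C)⁻¹ * (((w : C) * b * (w : C)⁻¹) * ((a : C)⁻¹ * (b : C)⁻¹)) := by
                rw [comm_apply hQc (inv_mem b.2) (inv_mem a.2)]
            _ = (w : C) * a * (w : C)⁻¹ * ((((w : C) * b * (w : C)⁻¹) * (a : C)⁻¹) * (b : C)⁻¹) := by group
            _ = _ := by rw [hc]; group)
    set I := ψ.range.map Q.subtype with hI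
    have hIQ : I ≤ Q := map_subtype_le _
    -- `I` is normalized by everything
    haveI hIn : I.Normal := by
      rw [← normalizer_eq_top_iff, eq_top_iff, ← hQR, sup_le_iff]
      refine ⟨fun a ha => mem_normalizer_fintype fun v hv => ?_, fun s hs => mem_normalizer_fintype fun v hv => ?_⟩
      · show a * v * a⁻¹ ∈ I
        rw [comm_apply hQc ha (hIQ hv), mul_inv_cancel_right]; exact hv
      · obtain ⟨i, rfl⟩ := hRw s hs
        obtain ⟨_, ⟨a, rfl⟩, rfl⟩ := hv
        refine ⟨ψ ⟨(w : C) ^ i * a * ((w : C) ^ i)⁻¹, hQn.conj_mem _ a.2 _⟩, ⟨_, rfl⟩, ?_⟩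
        show (w : C) * ((w : C) ^ i * a * ((w : C) ^ i)⁻¹) * (w : C)⁻¹ * ((w : C) ^ i * a * ((w : C) ^ i)⁻¹)⁻¹
          = (w : C) ^ i * ((w : C) * a * (w : C)⁻¹ * (a : C)⁻¹) * ((w : C) ^ i)⁻¹
        group
    set M := I ⊔ (R : Subgroup C) with hM
    haveI hMn : M.Normal := by
      rw [← normalizer_eq_top_iff, eq_top_iff, ← hQR, sup_le_iff]
      refine ⟨fun a ha => mem_normalizer_fintype fun v hv => ?_, (le_sup_right : _ ≤ M).trans le_normalizer⟩
      rw [SetLike.mem_coe, hM, ← SetLike.mem_coe, normal_mul] at hv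
      obtain ⟨b, hb, s, hs, rfl⟩ := hv
      obtain ⟨i, rfl⟩ := hRw s hs
      show a * (b * (w : C) ^ i) * a⁻¹ ∈ M
      have hwM : (w : C) ∈ M := mem_sup_right w.2
      have hconj : a * (w : C) * a⁻¹ ∈ M := by
        have h1 : (w : C) * a * (w : C)⁻¹ * a⁻¹ ∈ M := mem_sup_left ⟨ψ ⟨a, ha⟩, ⟨_, rfl⟩, rfl⟩
        have h2 := mul_mem (inv_mem h1) hwM
        rwa [show ((w : C) * a * (w : C)⁻¹ * a⁻¹)⁻¹ * (w : C) = a * (w : C) * a⁻¹ by group] at h2
      rw [show a * (b * (w : C) ^ i) * a⁻¹ = (a * b * a⁻¹) * (a * (w : C) * a⁻¹) ^ i by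
        rw [conj_zpow]; group]
      exact mul_mem (mem_sup_left (hIn.conj_mem b hb a)) (zpow_mem hconj i)
    have hMne : M ≠ ⊤ := by
      intro e
      -- then every element of `Q` is a commutator with `w`
      have hsurj : Function.Surjective ψ := by
        intro a
        have hm : (a : C) ∈ M := e ▸ mem_top _
        rw [hM, ← SetLike.mem_coe, normal_mul] at hm
        obtain ⟨_, ⟨c, hc, rfl⟩, s, hs, hcs⟩ := hm
        have hs1 : s = 1 := by
          have hsQ : s ∈ Q := by
            rw [show s = (Q.subtype c)⁻¹ * (a : C) by rw [← hcs, inv_mul_cancel_left]]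
            exact mul_mem (inv_mem c.2) a.2
          obtain ⟨k, hk⟩ := IsPGroup.iff_orderOf.1 R.2 ⟨s, hs⟩
          rw [← orderOf_coe] at hk
          rcases Nat.eq_zero_or_pos k with rfl | hk0
          · exact orderOf_eq_one_iff.1 (hk.trans (pow_zero _))
          · exact absurd ((dvd_pow_self q hk0.ne').trans hk.symm.dvd) (hQp _ hsQ)
        obtain ⟨d, hd⟩ := hc
        refine ⟨d, Subtype.ext ?_⟩
        replace hcs : ((c : Q) : C) * s = (a : C) := hcs
        rw [hd, ← hcs, hs1, mul_one]
      have hinj : Function.Injective ψ := Finite.injective_iff_surjective.2 hsurj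
      have h0 : ψ ⟨⟨y, hyC⟩, hyQ⟩ = 1 := Subtype.ext (by
        show (w : C) * ⟨y, hyC⟩ * (w : C)⁻¹ * (⟨y, hyC⟩ : C)⁻¹ = 1
        rw [mem_center_iff.1 hyZ (w : C), mul_inv_cancel_right, mul_inv_cancel])
      exact hy1 (congrArg (fun u : Q => ((u : C) : X)) (hinj (h0.trans (map_one ψ).symm)))
    have hMc : IsMulCommutative M := by
      by_contra hc
      exact hMne ((h.subgroup C).normal_eq_top M hc)
    -- so `w` centralizes `Q`
    have hQw : ∀ a ∈ Q, a * (w : C) = (w : C) * a := by
      intro a ha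
      set c := ψ ⟨a, ha⟩ with hc
      have hcw : (c : C) * (w : C) = (w : C) * (c : C) :=
        comm_apply hMc (mem_sup_left ⟨c, ⟨_, rfl⟩, rfl⟩) (mem_sup_right w.2)
      obtain ⟨k, hk⟩ := R.2 w
      have hwk : (w : C) ^ q ^ k = 1 := congrArg Subtype.val hk
      have hstep : ∀ j : ℕ, (w : C) ^ j * a * ((w : C) ^ j)⁻¹ = (c : C) ^ j * a := by
        intro j
        induction j with
        | zero => simp
        | succ j ih =>
          have h1 : (w : C) * a * (w : C)⁻¹ = (c : C) * a := by
            show (w : C) * a * (w : C)⁻¹ = (w : C) * a * (w : C)⁻¹ * a⁻¹ * a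
            group
          have h2 : (w : C) * (c : C) ^ j * (w : C)⁻¹ = (c : C) ^ j := by
            rw [← ((show Commute (c : C) (w : C) from hcw).pow_left j).eq, mul_inv_cancel_right]
          calc (w : C) ^ (j + 1) * a * ((w : C) ^ (j + 1))⁻¹
              = (w : C) * ((w : C) ^ j * a * ((w : C) ^ j)⁻¹) * (w : C)⁻¹ := by rw [pow_succ']; group
            _ = ((w : C) * (c : C) ^ j * (w : C)⁻¹) * ((w : C) * a * (w : C)⁻¹) := by rw [ih]; group
            _ = (c : C) ^ (j + 1) * a := by rw [h1, h2, pow_succ]; group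
      have h3 := hstep (q ^ k)
      rw [hwk, one_mul, inv_one, mul_one] at h3
      have h4 : orderOf (c : C) ∣ q ^ k := orderOf_dvd_of_pow_eq_one (by simpa using h3)
      obtain ⟨i, -, hi⟩ := (Nat.dvd_prime_pow hq).1 h4
      have h5 : (c : C) = 1 := by
        rcases Nat.eq_zero_or_pos i with rfl | hi0
        · exact orderOf_eq_one_iff.1 (hi.trans (pow_zero _))
        · exact absurd ((dvd_pow_self q hi0.ne').trans hi.symm.dvd) (hQp _ c.2)
      have h6 : (w : C) * a * (w : C)⁻¹ * a⁻¹ = 1 := h5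
      exact (mul_inv_eq_iff_eq_mul.1 (mul_inv_eq_one.1 h6)).symm
    have hall : ∀ a b : C, a * b = b * a := by
      intro a b
      have hta : a ∈ Q ⊔ (R : Subgroup C) := hQR ▸ mem_top a
      have htb : b ∈ Q ⊔ (R : Subgroup C) := hQR ▸ mem_top b
      rw [← SetLike.mem_coe, normal_mul] at hta htb
      obtain ⟨a1, ha1, a2, ha2, rfl⟩ := hta
      obtain ⟨b1, hb1, b2, hb2, rfl⟩ := htb
      have hcr : ∀ u ∈ Q, ∀ s ∈ (R : Subgroup C), Commute u s := fun u hu s hs => by
        obtain ⟨i, rfl⟩ := hRw s hs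
        exact (show Commute u (w : C) from hQw u hu).zpow_right i
      have c1 : Commute a1 (b1 * b2) := (show Commute a1 b1 from comm_apply hQc ha1 hb1).mul_right (hcr _ ha1 _ hb2)
      have c2 : Commute a2 (b1 * b2) := (hcr _ hb1 _ ha2).symm.mul_right
        (show Commute a2 b2 from comm_apply (inferInstance : IsMulCommutative (R : Subgroup C)) ha2 hb2)
      exact (c1.mul_left c2).eq
    exact hC ⟨⟨hall⟩⟩

/-- A perfect group with this property is a CT-group. -/
theorem isCT (h : SN X) (hperf : commutator X = ⊤) : CfsgLib.CTSimple.IsCT X :=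
  fun a b c _ hb _ hab hbc => comm_apply (centralizer_comm h hperf hb)
    (mem_centralizer_singleton_iff.2 hab) (mem_centralizer_singleton_iff.2 hbc.symm)

end CfsgLib.SelfNormNonab
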